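import Mathlib
import Cfsg.Agent.Lib.Helper8.TPFront

/-! Project TP (S4033), front piece F2 (helper93 for helper8/helper4): the centralizer of a
noncentral `p`-regular element equals the centralizer of a noncentral element of prime power
order `q ^ k`, `q ≠ p` (a power of it; strong induction on the order). -/

set_option autoImplicit false

namespace Cfsg.Agent.Lib.Helper93.TP

open Cfsg.Agent.Lib.Helper8.TP

universe u

theorem F2_center_of_coprime_pow {G : Type*} [Group G] {g : G} {a b : ℕ}
    (hab : Nat.Coprime a b) (ha : g ^ a ∈ Subgroup.center G) (hb : g ^ b ∈ Subgroup.center G) :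
    g ∈ Subgroup.center G := by
  have h1 : (g ^ a) ^ (Nat.gcdA a b) * (g ^ b) ^ (Nat.gcdB a b) = g := by
    rw [← zpow_natCast g a, ← zpow_natCast g b, ← zpow_mul, ← zpow_mul, ← zpow_add,
      ← Nat.gcd_eq_gcd_ab, hab.gcd_eq_one]
    simp
  rw [← h1]
  exact Subgroup.mul_mem _ (Subgroup.zpow_mem _ ha _) (Subgroup.zpow_mem _ hb _)

theorem F2_centralizer_pow_le {G : Type*} [Group G] (g : G) (k : ℕ) :
    Subgroup.centralizer ({g} : Set G) ≤ Subgroup.centralizer ({g ^ k} : Set G) := by
  intro h hh
  rw [Subgroup.mem_centralizer_iff] at hh ⊢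
  intro y hy
  rw [Set.mem_singleton_iff] at hy
  rw [hy]
  have hc : Commute g h := hh g (Set.mem_singleton g)
  exact hc.pow_left k

theorem F2_centralizer_eq {G : Type*} [Group G] [Finite G] {p m : ℕ} (hm : TwoReg p m G)
    {g x : G} (hg : (orderOf g).Coprime p) (hgc : g ∉ Subgroup.center G)
    (hx : (orderOf x).Coprime p) (hxc : x ∉ Subgroup.center G)
    (hle : Subgroup.centralizer ({g} : Set G) ≤ Subgroup.centralizer ({x} : Set G)) :
    Subgroup.centralizer ({x} : Set G) = Subgroup.centralizer ({g} : Set G) := by
  have h1 : (Subgroup.centralizer ({g} : Set G)).index = m := by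
    rcases hm g hg with h | h
    · exact absurd (mem_center_of_index_centralizer_eq_one h) hgc
    · exact h
  have h2 : (Subgroup.centralizer ({x} : Set G)).index = m := by
    rcases hm x hx with h | h
    · exact absurd (mem_center_of_index_centralizer_eq_one h) hxc
    · exact h
  have h0 : (Subgroup.centralizer ({x} : Set G)).index ≠ 0 := Subgroup.index_ne_zero_of_finite
  have h3 := Subgroup.relIndex_mul_index hle
  rw [h1, h2] at h3
  have h4 : (Subgroup.centralizer ({g} : Set G)).relIndex
      (Subgroup.centralizer ({x} : Set G)) = 1 := by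
    rw [h2] at h0
    have h5 : (Subgroup.centralizer ({g} : Set G)).relIndex
        (Subgroup.centralizer ({x} : Set G)) * m = 1 * m := by rw [h3, one_mul]
    exact Nat.eq_of_mul_eq_mul_right (Nat.pos_of_ne_zero h0) h5
  exact le_antisymm (Subgroup.relIndex_eq_one.mp h4) hle

theorem f2 : F2Stmt.{u} := by
  intro G _ _ p m hp hm
  have key : ∀ n : ℕ, ∀ g : G, orderOf g = n → (orderOf g).Coprime p →
      g ∉ Subgroup.center G →
      ∃ (q : ℕ) (x : G), q.Prime ∧ q ≠ p ∧ (∃ k : ℕ, orderOf x = q ^ k) ∧
        x ∉ Subgroup.center G ∧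
        Subgroup.centralizer ({x} : Set G) = Subgroup.centralizer ({g} : Set G) := by
    intro n
    induction n using Nat.strong_induction_on with
    | _ n ih =>
      intro g hgn hg hgc
      have hn0 : n ≠ 0 := by
        rw [← hgn]
        exact (orderOf_pos g).ne'
      have hn1 : n ≠ 1 := by
        intro h
        rw [h, orderOf_eq_one_iff] at hgn
        exact hgc (hgn ▸ Subgroup.one_mem _)
      have hqp : (n.minFac).Prime := Nat.minFac_prime hn1
      have hqn : n.minFac ∣ n := Nat.minFac_dvd n
      have hqne : n.minFac ≠ p := by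
        intro h
        have h1 : p ∣ orderOf g := by rw [hgn, ← h]; exact hqn
        have h2 : p ∣ Nat.gcd (orderOf g) p := Nat.dvd_gcd h1 dvd_rfl
        have h3 : Nat.gcd (orderOf g) p = 1 := hg
        rw [h3] at h2
        exact hp.one_lt.ne' (Nat.dvd_one.mp h2)
      obtain ⟨a, ha⟩ : ∃ a, a = n.minFac ^ n.factorization n.minFac := ⟨_, rfl⟩
      obtain ⟨b, hb⟩ : ∃ b, b = n / n.minFac ^ n.factorization n.minFac := ⟨_, rfl⟩
      have hab : a * b = n := by
        rw [ha, hb]
        exact Nat.ordProj_mul_ordCompl_eq_self n n.minFac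
      have hcop : Nat.Coprime a b := by
        rw [ha, hb]
        exact (Nat.coprime_ordCompl hqp hn0).pow_left _
      by_cases hb1 : b = 1
      · refine ⟨n.minFac, g, hqp, hqne, ⟨n.factorization n.minFac, ?_⟩, hgc, rfl⟩
        have hna : n = a := by rw [← hab, hb1, mul_one]
        exact hgn.trans (hna.trans ha)
      · have ha1 : 1 < a := by
          have h1 : 0 < n.factorization n.minFac := hqp.factorization_pos_of_dvd hn0 hqn
          rw [ha]
          exact Nat.one_lt_pow h1.ne' hqp.one_lt
        have hb0 : b ≠ 0 := by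
          intro h
          rw [h, mul_zero] at hab
          exact hn0 hab.symm
        have hb2 : 1 < b := by omega
        have hda : a ∣ orderOf g := by rw [hgn]; exact Dvd.intro _ hab
        have hdb : b ∣ orderOf g := by rw [hgn]; exact Dvd.intro_left _ hab
        have hoa : orderOf (g ^ a) = b := by
          rw [orderOf_pow_of_dvd (by omega) hda, hgn]
          exact Nat.div_eq_of_eq_mul_right (by omega) hab.symm
        have hob : orderOf (g ^ b) = a := by
          rw [orderOf_pow_of_dvd hb0 hdb, hgn]
          exact Nat.div_eq_of_eq_mul_left (by omega) hab.symm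
        have hbn : b < n := by nlinarith
        have han : a < n := by nlinarith
        by_cases hca : g ^ a ∈ Subgroup.center G
        · have hcb : g ^ b ∉ Subgroup.center G := fun hcb =>
            hgc (F2_center_of_coprime_pow hcop hca hcb)
          have hpb : (orderOf (g ^ b)).Coprime p := by
            rw [hob]
            exact Nat.Coprime.coprime_dvd_left hda hg
          obtain ⟨q', x, h1, h2, h3, h4, h5⟩ := ih a han (g ^ b) hob hpb hcb
          exact ⟨q', x, h1, h2, h3, h4, h5.trans
            (F2_centralizer_eq hm hg hgc hpb hcb (F2_centralizer_pow_le g b))⟩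
        · have hpa : (orderOf (g ^ a)).Coprime p := by
            rw [hoa]
            exact Nat.Coprime.coprime_dvd_left hdb hg
          obtain ⟨q', x, h1, h2, h3, h4, h5⟩ := ih b hbn (g ^ a) hoa hpa hca
          exact ⟨q', x, h1, h2, h3, h4, h5.trans
            (F2_centralizer_eq hm hg hgc hpa hca (F2_centralizer_pow_le g a))⟩
  intro g hg hgc
  exact key (orderOf g) g rfl hg hgc

end Cfsg.Agent.Lib.Helper93.TP
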