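import Mathlib
import Cfsg.Agent.Lib.Helper8.TPFront

/-! Project TP (S4033), front piece F3 (helper93 for helper8/helper4): for a noncentral
`q`-element `x`, the `p`-regular `q'`-elements of `C(x)` are central in `C(x)` (from F1). -/

set_option autoImplicit false

namespace Cfsg.Agent.Lib.Helper93.TP

open Cfsg.Agent.Lib.Helper8.TP

universe u

theorem f3 (h1 : F1Stmt.{u}) : F3Stmt.{u} := by
  intro G _ _ p m q hp hm hq hqp x y hx hxc hyp hyq hy g hg
  have hxp : (orderOf x).Coprime p := preg_of_prime_pow hp hq hqp hx
  have hxy : (orderOf x).Coprime (orderOf y) := by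
    obtain ⟨k, hk⟩ := hx
    rw [hk]
    exact Nat.Coprime.pow_left k hyq.symm
  have hcomm : Commute x y := by
    rw [Subgroup.mem_centralizer_iff] at hy
    exact hy x (Set.mem_singleton x)
  have hle := h1 G p m hm x y hxp hyp hcomm hxy hxc
  have hgy := hle hg
  rw [Subgroup.mem_centralizer_iff] at hgy
  exact (hgy y (Set.mem_singleton y)).symm

end Cfsg.Agent.Lib.Helper93.TP
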