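import Mathlib

/-! Project RC (helper48, S1157), piece RC-CONJ (helper93): the properties `C(S) = S` and
`|N(S)| = 168` pass from one Sylow 2-subgroup to all of them (Sylow conjugacy). -/

set_option autoImplicit false

namespace Cfsg.Agent.Lib.Helper48.RC

theorem CONJ_centralizer_map {G : Type*} [Group G] (K : Subgroup G) (g : G) :
    Subgroup.centralizer ((K.map (MulAut.conj g).toMonoidHom : Subgroup G) : Set G) =
      (Subgroup.centralizer (K : Set G)).map (MulAut.conj g).toMonoidHom := by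
  ext x
  constructor
  · intro hx
    refine Subgroup.mem_map.mpr ⟨g⁻¹ * x * g, ?_, ?_⟩
    · rw [Subgroup.mem_centralizer_iff]
      intro y hy
      have h1 : g * y * g⁻¹ ∈ ((K.map (MulAut.conj g).toMonoidHom : Subgroup G) : Set G) :=
        Subgroup.mem_map.mpr ⟨y, hy, rfl⟩
      have h2 : g * y * g⁻¹ * x = x * (g * y * g⁻¹) :=
        (Subgroup.mem_centralizer_iff.mp hx) _ h1
      calc y * (g⁻¹ * x * g) = g⁻¹ * ((g * y * g⁻¹) * x) * g := by group
        _ = g⁻¹ * (x * (g * y * g⁻¹)) * g := by rw [h2]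
        _ = g⁻¹ * x * g * y := by group
    · show g * (g⁻¹ * x * g) * g⁻¹ = x
      group
  · intro hx
    obtain ⟨x', hx', rfl⟩ := Subgroup.mem_map.mp hx
    rw [Subgroup.mem_centralizer_iff]
    intro y hy
    obtain ⟨y', hy', rfl⟩ := Subgroup.mem_map.mp hy
    have h2 : y' * x' = x' * y' := (Subgroup.mem_centralizer_iff.mp hx') y' hy'
    show g * y' * g⁻¹ * (g * x' * g⁻¹) = g * x' * g⁻¹ * (g * y' * g⁻¹)
    calc g * y' * g⁻¹ * (g * x' * g⁻¹) = g * (y' * x') * g⁻¹ := by group
      _ = g * (x' * y') * g⁻¹ := by rw [h2]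
      _ = g * x' * g⁻¹ * (g * y' * g⁻¹) := by group

-- piece RC-CONJ
theorem all_sylow_of_one {G : Type*} [Group G] [Finite G] (S₀ : Sylow 2 G)
    (hC : Subgroup.centralizer ((S₀ : Subgroup G) : Set G) = S₀)
    (hN : Nat.card ↥(Subgroup.normalizer ((S₀ : Subgroup G) : Set G)) = 168) (S : Sylow 2 G) :
    Subgroup.centralizer ((S : Subgroup G) : Set G) = S ∧
      Nat.card ↥(Subgroup.normalizer ((S : Subgroup G) : Set G)) = 168 := by
  obtain ⟨g, hg⟩ := MulAction.exists_smul_eq G S₀ S
  have hS : (S : Subgroup G) = (S₀ : Subgroup G).map (MulAut.conj g).toMonoidHom := by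
    rw [← hg, Sylow.coe_subgroup_smul]
    rfl
  constructor
  · rw [hS, CONJ_centralizer_map, hC]
  · rw [hS, ← Subgroup.map_equiv_normalizer_eq,
      Subgroup.card_map_of_injective (MulAut.conj g).injective]
    exact hN

end Cfsg.Agent.Lib.Helper48.RC
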