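import Mathlib
import Cfsg.Agent.Lib.Helper48.RCBase

/-! Project RC (helper48, S1157), piece RC-CSS (helper93): in the rank-one setting `Ok0`, an
abelian Sylow 2-subgroup `S` of order 8 containing `J = H (-1)` with `|N(S) ∩ C(J)| = 24` is
self-centralising. -/

set_option autoImplicit false

namespace Cfsg.Agent.Lib.Helper48.RC

section ok0

variable {F : Type*} [Field F] [Finite F] [CharP F 3] {G : Type*} [Group G] [Finite G]
variable {θ : F →+* F} {T : F → F → F → G} {H : Fˣ → G} {w : G}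

-- piece RC-CSS
theorem centralizer_sylow (h : Ok0 θ T H w) (hq : Nat.card F % 8 = 3)
    (hB : Nat.card h.Bs = Nat.card F ^ 3 * (Nat.card F - 1))
    (S : Sylow 2 G) (hJS : H (-1) ∈ S) (hab : ∀ x ∈ S, ∀ y ∈ S, x * y = y * x)
    (hS8 : Nat.card S = 8)
    (h24 : Nat.card ↥(Subgroup.normalizer ((S : Subgroup G) : Set G) ⊓
      Subgroup.centralizer {H (-1)}) = 24) :
    Subgroup.centralizer ((S : Subgroup G) : Set G) = S := by
  have hS8' : Nat.card (S : Subgroup G) = 8 := hS8
  have hSC : (S : Subgroup G) ≤ Subgroup.centralizer ((S : Subgroup G) : Set G) := by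
    intro x hx
    rw [Subgroup.mem_centralizer_iff]
    intro y hy
    exact hab y hy x hx
  have hCN : Subgroup.centralizer ((S : Subgroup G) : Set G) ≤
      Subgroup.normalizer ((S : Subgroup G) : Set G) ⊓ Subgroup.centralizer {H (-1)} := by
    apply le_inf
    · exact Subgroup.centralizer_le_normalizer _
    · apply Subgroup.centralizer_le
      intro y hy
      rw [Set.mem_singleton_iff] at hy
      rw [hy]
      exact hJS
  have hd24 : Nat.card (Subgroup.centralizer ((S : Subgroup G) : Set G)) ∣ 24 := by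
    rw [← h24]
    exact Subgroup.card_dvd_of_le hCN
  have hd8 : 8 ∣ Nat.card (Subgroup.centralizer ((S : Subgroup G) : Set G)) := by
    rw [← hS8']
    exact Subgroup.card_dvd_of_le hSC
  symm
  apply Subgroup.eq_of_le_of_card_ge hSC
  rw [hS8']
  by_contra hlt
  push Not at hlt
  -- the centralizer has order 24
  have h3 : 3 ∣ Nat.card (Subgroup.centralizer ((S : Subgroup G) : Set G)) := by
    obtain ⟨k, hk⟩ := hd8
    rw [hk] at hd24 hlt ⊢
    have hk3 : k ∣ 3 := by
      have h1 : 8 * k ∣ 8 * 3 := hd24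
      exact (Nat.mul_dvd_mul_iff_left (by norm_num)).mp h1
    rcases (Nat.dvd_prime Nat.prime_three).mp hk3 with h1 | h1
    · rw [h1] at hlt
      omega
    · rw [h1]
      exact Dvd.intro_left 8 rfl
  haveI : Fact (Nat.Prime 3) := ⟨Nat.prime_three⟩
  obtain ⟨x0, hx0⟩ := exists_prime_orderOf_dvd_card' 3 h3
  obtain ⟨x, hxdef⟩ : ∃ x : G, x = (x0 : G) := ⟨_, rfl⟩
  have hx3 : orderOf x = 3 := by
    rw [hxdef, Subgroup.orderOf_coe]
    exact hx0
  have hxC : x ∈ Subgroup.centralizer ((S : Subgroup G) : Set G) := by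
    rw [hxdef]
    exact x0.2
  -- conjugate `x` into the unipotent subgroup
  obtain ⟨P, hP⟩ := h.syl
  have hpx : IsPGroup 3 (Subgroup.zpowers x) := by
    apply IsPGroup.of_card (n := 1)
    rw [Nat.card_zpowers, hx3, pow_one]
  obtain ⟨Q', hQ'⟩ := hpx.exists_le_sylow
  obtain ⟨a, ha⟩ := MulAction.exists_smul_eq G Q' P
  have hmem : a * x * a⁻¹ ∈ (P : Subgroup G) := by
    rw [← ha, Sylow.coe_subgroup_smul]
    have := Subgroup.smul_mem_pointwise_smul x (MulAut.conj a)
      (Q' : Subgroup G) (hQ' (Subgroup.mem_zpowers x))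
    simpa using this
  have hu : a * x * a⁻¹ ∈ h.Qs := (h.mem_Qs _).mpr ((hP _).mp hmem)
  have hu1 : a * x * a⁻¹ ≠ 1 := by
    intro h1
    have h2 : x = 1 := by
      have h4 := congrArg (fun g => a⁻¹ * g * a) h1
      simp only [mul_one, inv_mul_cancel] at h4
      rw [← h4]
      group
    rw [h2, orderOf_one] at hx3
    norm_num at hx3
  have hSB : (S : Subgroup G).map (MulAut.conj a).toMonoidHom ≤ h.Bs := by
    intro y hy
    obtain ⟨s, hs, rfl⟩ := Subgroup.mem_map.mp hy
    apply h.mem_Bs_of_conj hu hu1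
    have hsx : s * x = x * s := (Subgroup.mem_centralizer_iff.mp hxC) s hs
    have e : (MulAut.conj a).toMonoidHom s * (a * x * a⁻¹) *
        ((MulAut.conj a).toMonoidHom s)⁻¹ = a * x * a⁻¹ := by
      show a * s * a⁻¹ * (a * x * a⁻¹) * (a * s * a⁻¹)⁻¹ = a * x * a⁻¹
      calc a * s * a⁻¹ * (a * x * a⁻¹) * (a * s * a⁻¹)⁻¹ = a * (s * x) * s⁻¹ * a⁻¹ := by group
        _ = a * (x * s) * s⁻¹ * a⁻¹ := by rw [hsx]
        _ = a * x * a⁻¹ := by group
    rw [e]
    exact hu
  have h8B : 8 ∣ Nat.card h.Bs := by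
    have h1 := Subgroup.card_dvd_of_le hSB
    rw [Subgroup.card_map_of_injective (MulAut.conj a).injective, hS8'] at h1
    exact h1
  rw [hB] at h8B
  have hq1 : (Nat.card F - 1) % 8 = 2 := by omega
  have hq3 : (Nat.card F ^ 3) % 8 = 3 := by rw [Nat.pow_mod, hq]
  have hmod : (Nat.card F ^ 3 * (Nat.card F - 1)) % 8 = 6 := by rw [Nat.mul_mod, hq3, hq1]
  have := Nat.mod_eq_zero_of_dvd h8B
  omega

end ok0

end Cfsg.Agent.Lib.Helper48.RC
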