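import Mathlib
import Cfsg.Agent.Lib.Helper22.PTDefs
import Cfsg.Agent.Lib.Helper22.PTAux

/-! Project PT (S4705, architect helper22), piece SING (helper93, backup copy): the sum of a
class function over the `p`-singular elements, by double counting the triples `(x, t, c)` with
`x (z ^ t c) x⁻¹ = g`. -/

set_option autoImplicit false

namespace Cfsg.Agent.Lib.Helper93.PT

open Cfsg Cfsg.Agent.Lib.Helper22.BFD Cfsg.Agent.Lib.Helper22.PT
open scoped ComplexConjugate

universe u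

variable {G : Type u} [Group G] [Fintype G]

theorem sing_zpow_add (p : ℕ) [Fact p.Prime] (z : G) (hz : orderOf z = p) (a b : ZMod p) :
    z ^ a.val * z ^ b.val = z ^ (a + b).val := by
  have hp : p.Prime := Fact.out
  have : NeZero p := ⟨hp.ne_zero⟩
  rw [← pow_add]
  apply aux_pow_congr p z hz
  push_cast
  rw [ZMod.natCast_zmod_val, ZMod.natCast_zmod_val, ZMod.natCast_zmod_val]

theorem sing_zpow_pow (p : ℕ) [Fact p.Prime] (z : G) (hz : orderOf z = p) (a : ZMod p)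
    (n : ℕ) : (z ^ a.val) ^ n = z ^ (a * (n : ZMod p)).val := by
  have hp : p.Prime := Fact.out
  have : NeZero p := ⟨hp.ne_zero⟩
  rw [← pow_mul]
  apply aux_pow_congr p z hz
  push_cast
  rw [ZMod.natCast_zmod_val, ZMod.natCast_zmod_val]

theorem sing_conj_mul (x₀ y a : G) :
    (x₀ * y) * a * (x₀ * y)⁻¹ = x₀ * (y * a * y⁻¹) * x₀⁻¹ := by group

theorem sing_conj_inv (x₀ x a : G) :
    x₀⁻¹ * x * a * (x₀⁻¹ * x)⁻¹ = x₀⁻¹ * (x * a * x⁻¹) * x₀ := by group

theorem sing_conj_central (y a c : G) (hc : ∀ g : G, g * c = c * g) :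
    y * (a * c) * y⁻¹ = y * a * y⁻¹ * c := by
  calc y * (a * c) * y⁻¹ = y * a * (c * y⁻¹) := by simp only [mul_assoc]
    _ = y * a * (y⁻¹ * c) := by rw [hc y⁻¹]
    _ = y * a * y⁻¹ * c := by simp only [mul_assoc]

/-- A central element with `d ^ p = 1` is trivial. -/
theorem sing_central_pow (p : ℕ) [Fact p.Prime] (z : G) (ζ : G → ℂ) (h : Hyp G p z ζ)
    (d : G) (hd : d ∈ Subgroup.center G) (hdp : d ^ p = 1) : d = 1 := by
  by_contra hd1
  have hp : p.Prime := Fact.out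
  have hord : orderOf d = p := orderOf_eq_prime hdp hd1
  obtain ⟨Q, hQ⟩ := aux_sylow p z h.ord h.sq
  have hpg : IsPGroup p (Subgroup.zpowers d) := by
    apply IsPGroup.of_card (n := 1)
    rw [Nat.card_zpowers, hord, pow_one]
  obtain ⟨Q', hQ'⟩ := hpg.exists_le_sylow
  obtain ⟨a, ha⟩ := MulAction.exists_smul_eq G Q' Q
  have hmem : a * d * a⁻¹ ∈ Subgroup.zpowers z := by
    rw [← hQ, ← ha, Sylow.coe_subgroup_smul]
    have := Subgroup.smul_mem_pointwise_smul d (MulAut.conj a)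
      (Q' : Subgroup G) (hQ' (Subgroup.mem_zpowers d))
    simpa using this
  have hada : a * d * a⁻¹ = d := by
    rw [Subgroup.mem_center_iff.mp hd a, mul_inv_cancel_right]
  rw [hada, Subgroup.mem_zpowers_iff] at hmem
  obtain ⟨i, hi⟩ := hmem
  have hi' : z ^ ((i : ZMod p).val) = d := by rw [← aux_zpow_val p z h.ord i, hi]
  have hi0 : (i : ZMod p) ≠ 0 := by
    intro h0
    rw [h0, ZMod.val_zero, pow_zero] at hi'
    exact hd1 hi'.symm
  exact aux_znc p z ζ h _ hi0 (hi' ▸ hd)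

/-- `x (z ^ t c) x⁻¹` is `p`-singular. -/
theorem sing_dvd_order (p : ℕ) [Fact p.Prime] (z : G) (ζ : G → ℂ) (h : Hyp G p z ζ)
    (t : ZMod p) (ht : t ≠ 0) (c : G) (hc : c ∈ Subgroup.center G) (x : G) :
    p ∣ orderOf (x * (z ^ t.val * c) * x⁻¹) := by
  rw [Cfsg.Agent.Lib.Helper22.orderOf_conj_eq]
  obtain ⟨n, hn⟩ : ∃ n : ℕ, n = orderOf (z ^ t.val * c) := ⟨_, rfl⟩
  rw [← hn]
  have hcomm : Commute (z ^ t.val) c := Subgroup.mem_center_iff.mp hc (z ^ t.val)
  have h1 : (z ^ t.val) ^ n * c ^ n = 1 := by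
    rw [← hcomm.mul_pow, hn]
    exact pow_orderOf_eq_one _
  have h2 : (z ^ t.val) ^ n ∈ Subgroup.center G := by
    have h3 : (z ^ t.val) ^ n = (c ^ n)⁻¹ := eq_inv_of_mul_eq_one_left h1
    rw [h3]
    exact Subgroup.inv_mem _ (Subgroup.pow_mem _ hc n)
  rw [sing_zpow_pow p z h.ord] at h2
  by_contra hnd
  have hne : t * (n : ZMod p) ≠ 0 := by
    apply mul_ne_zero ht
    rwa [Ne, ZMod.natCast_eq_zero_iff]
  exact aux_znc p z ζ h _ hne h2

/-- The centralizer of `z ^ t c`. -/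
theorem sing_card_cent (p : ℕ) [Fact p.Prime] (z : G) (ζ : G → ℂ) (h : Hyp G p z ζ)
    (hl : Loc G p z ζ) (t : ZMod p) (ht : t ≠ 0) (c : G) (hc : c ∈ Subgroup.center G) :
    Nat.card (Subgroup.centralizer ({z ^ t.val * c} : Set G)) =
      p * Nat.card (Subgroup.center G) := by
  have hp : p.Prime := Fact.out
  have : NeZero p := ⟨hp.ne_zero⟩
  have : Fact (1 < p) := ⟨hp.one_lt⟩
  have hz1 : (z ^ t.val) ^ (t⁻¹).val = z := by
    rw [sing_zpow_pow p z h.ord, ZMod.natCast_zmod_val, mul_inv_cancel₀ ht, ZMod.val_one,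
      pow_one]
  have hcen : Subgroup.centralizer ({z ^ t.val * c} : Set G) =
      Subgroup.centralizer ({z} : Set G) := by
    ext g
    simp only [Subgroup.mem_centralizer_iff, Set.mem_singleton_iff, forall_eq]
    have hcg : c * g = g * c := (Subgroup.mem_center_iff.mp hc g).symm
    constructor
    · intro hg
      have h1 : z ^ t.val * g = g * z ^ t.val := by
        have h2 : z ^ t.val * g * c = g * z ^ t.val * c := by
          calc z ^ t.val * g * c = z ^ t.val * c * g := by rw [mul_assoc, ← hcg, ← mul_assoc]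
            _ = g * (z ^ t.val * c) := hg
            _ = g * z ^ t.val * c := by rw [mul_assoc]
        exact mul_right_cancel h2
      have h3 : Commute (z ^ t.val) g := h1
      have h4 := h3.pow_left (t⁻¹).val
      rw [hz1] at h4
      exact h4.eq
    · intro hg
      have h3 : Commute z g := hg
      have h4 : z ^ t.val * g = g * z ^ t.val := (h3.pow_left t.val).eq
      calc z ^ t.val * c * g = z ^ t.val * g * c := by rw [mul_assoc, hcg, ← mul_assoc]
        _ = g * z ^ t.val * c := by rw [h4]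
        _ = g * (z ^ t.val * c) := by rw [mul_assoc]
  rw [hcen]
  exact ccard p z ζ h hl

/-- The number of conjugators. -/
theorem sing_card_conj (a g x₁ : G) (hx₁ : x₁ * a * x₁⁻¹ = g) :
    Nat.card {x : G // x * a * x⁻¹ = g} = Nat.card (Subgroup.centralizer ({a} : Set G)) := by
  apply Nat.card_congr
  refine ⟨fun x => ⟨x₁⁻¹ * x.1, ?_⟩, fun y => ⟨x₁ * y.1, ?_⟩, ?_, ?_⟩
  · rw [Subgroup.mem_centralizer_iff]
    intro w hw
    rw [Set.mem_singleton_iff] at hw
    subst hw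
    have h1 : x.1 * w * x.1⁻¹ = x₁ * w * x₁⁻¹ := x.2.trans hx₁.symm
    calc w * (x₁⁻¹ * x.1) = x₁⁻¹ * (x₁ * w * x₁⁻¹) * x.1 := by group
      _ = x₁⁻¹ * (x.1 * w * x.1⁻¹) * x.1 := by rw [h1]
      _ = x₁⁻¹ * x.1 * w := by group
  · have hy := y.2
    rw [Subgroup.mem_centralizer_iff] at hy
    have h1 := hy a (Set.mem_singleton a)
    rw [← hx₁]
    calc x₁ * y.1 * a * (x₁ * y.1)⁻¹ = x₁ * (y.1 * a) * y.1⁻¹ * x₁⁻¹ := by group
      _ = x₁ * (a * y.1) * y.1⁻¹ * x₁⁻¹ := by rw [h1]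
      _ = x₁ * a * x₁⁻¹ := by group
  · intro x
    apply Subtype.ext
    simp
  · intro y
    apply Subtype.ext
    simp

/-- Conjugacy among the elements `z ^ t c`. -/
theorem sing_conj_iff (p : ℕ) [Fact p.Prime] (z : G) (ζ : G → ℂ) (h : Hyp G p z ζ)
    (hl : Loc G p z ζ) (t t₀ : ZMod p) (ht₀ : t₀ ≠ 0) (c c₀ : G)
    (hc : c ∈ Subgroup.center G) (hc₀ : c₀ ∈ Subgroup.center G) :
    (∃ y : G, y * (z ^ t.val * c) * y⁻¹ = z ^ t₀.val * c₀) ↔
      (c = c₀ ∧ (t = t₀ ∨ t = -t₀)) := by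
  have hp : p.Prime := Fact.out
  have : NeZero p := ⟨hp.ne_zero⟩
  have : Fact (1 < p) := ⟨hp.one_lt⟩
  have hzp : z ^ p = 1 := by
    rw [← h.ord]
    exact pow_orderOf_eq_one z
  have hcy : ∀ g : G, g * c = c * g := Subgroup.mem_center_iff.mp hc
  constructor
  · rintro ⟨y, hy⟩
    rw [sing_conj_central y _ c hcy] at hy
    have h1 : y * z ^ t.val * y⁻¹ = z ^ t₀.val * (c₀ * c⁻¹) := by
      rw [← mul_assoc, ← hy, mul_inv_cancel_right]
    obtain ⟨d, hd⟩ : ∃ d : G, d = c₀ * c⁻¹ := ⟨_, rfl⟩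
    rw [← hd] at h1
    have hdc : d ∈ Subgroup.center G := by
      rw [hd]
      exact Subgroup.mul_mem _ hc₀ (Subgroup.inv_mem _ hc)
    have hdp : d ^ p = 1 := by
      have h3 : (y * z ^ t.val * y⁻¹) ^ p = 1 := by
        rw [conj_pow, ← pow_mul, mul_comm, pow_mul, hzp, one_pow, mul_one, mul_inv_cancel]
      rw [h1] at h3
      have hcomm : Commute (z ^ t₀.val) d := Subgroup.mem_center_iff.mp hdc (z ^ t₀.val)
      rw [hcomm.mul_pow, ← pow_mul, mul_comm, pow_mul, hzp, one_pow, one_mul] at h3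
      exact h3
    have hd1 : d = 1 := sing_central_pow p z ζ h d hdc hdp
    have hcc : c = c₀ := by
      rw [hd1] at hd
      exact (mul_inv_eq_one.mp hd.symm).symm
    refine ⟨hcc, ?_⟩
    rw [hd1, mul_one] at h1
    have hk : IsConj (z ^ (t * t₀⁻¹).val) z := by
      rw [isConj_iff]
      refine ⟨y, ?_⟩
      have e1 : z ^ (t * t₀⁻¹).val = (z ^ t.val) ^ (t₀⁻¹).val := by
        rw [sing_zpow_pow p z h.ord, ZMod.natCast_zmod_val]
      rw [e1, ← conj_pow, h1, sing_zpow_pow p z h.ord, ZMod.natCast_zmod_val,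
        mul_inv_cancel₀ ht₀, ZMod.val_one, pow_one]
    rcases hl.cnj _ hk with h4 | h4
    · left
      exact (mul_inv_eq_one₀ ht₀).mp h4
    · right
      have h5 := (mul_inv_eq_iff_eq_mul₀ ht₀).mp h4
      rw [h5, neg_one_mul]
  · rintro ⟨hcc, htt | htt⟩
    · refine ⟨1, ?_⟩
      rw [← hcc, htt, one_mul, inv_one, mul_one]
    · obtain ⟨n, hn⟩ := hl.inv
      refine ⟨n, ?_⟩
      rw [← hcc, sing_conj_central n _ c hcy, ← conj_pow, hn]
      congr 1
      rw [inv_pow]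
      apply inv_eq_of_mul_eq_one_left
      rw [sing_zpow_add p z h.ord, htt, add_neg_cancel, ZMod.val_zero, pow_zero]

open Classical in
theorem sing_inner (p : ℕ) [Fact p.Prime] (z : G) (ζ : G → ℂ) (h : Hyp G p z ζ)
    (hl : Loc G p z ζ) (x₀ : G) (t₀ : ZMod p) (ht₀ : t₀ ≠ 0) (c₀ : G)
    (hc₀ : c₀ ∈ Subgroup.center G) (t : ZMod p) (c : G) :
    (∑ x : G, (if t ≠ 0 ∧ c ∈ Subgroup.center G ∧
        x * (z ^ t.val * c) * x⁻¹ = x₀ * (z ^ t₀.val * c₀) * x₀⁻¹ then (1 : ℂ) else 0)) =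
      if c = c₀ ∧ (t = t₀ ∨ t = -t₀) then
        ((p * Nat.card (Subgroup.center G) : ℕ) : ℂ) else 0 := by
  classical
  by_cases hcond : c = c₀ ∧ (t = t₀ ∨ t = -t₀)
  · rw [if_pos hcond]
    obtain ⟨hcc, htt⟩ := hcond
    have ht : t ≠ 0 := by
      rcases htt with h1 | h1
      · rw [h1]
        exact ht₀
      · rw [h1]
        exact neg_ne_zero.mpr ht₀
    have hc : c ∈ Subgroup.center G := hcc ▸ hc₀
    obtain ⟨y, hy⟩ := (sing_conj_iff p z ζ h hl t t₀ ht₀ c c₀ hc hc₀).mpr ⟨hcc, htt⟩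
    have hx₁ : (x₀ * y) * (z ^ t.val * c) * (x₀ * y)⁻¹ =
        x₀ * (z ^ t₀.val * c₀) * x₀⁻¹ := by
      rw [sing_conj_mul, hy]
    have hcount := sing_card_conj (z ^ t.val * c) _ (x₀ * y) hx₁
    rw [sing_card_cent p z ζ h hl t ht c hc] at hcount
    rw [← hcount]
    have hsimp : ∀ x : G, (t ≠ 0 ∧ c ∈ Subgroup.center G ∧
        x * (z ^ t.val * c) * x⁻¹ = x₀ * (z ^ t₀.val * c₀) * x₀⁻¹) ↔
        x * (z ^ t.val * c) * x⁻¹ = x₀ * (z ^ t₀.val * c₀) * x₀⁻¹ :=
      fun x => ⟨fun hh => hh.2.2, fun hh => ⟨ht, hc, hh⟩⟩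
    simp only [hsimp]
    rw [Finset.sum_boole, Nat.card_eq_fintype_card, Fintype.card_subtype]
  · rw [if_neg hcond]
    apply Finset.sum_eq_zero
    intro x _
    rw [if_neg]
    rintro ⟨-, hc, hx⟩
    apply hcond
    apply (sing_conj_iff p z ζ h hl t t₀ ht₀ c c₀ hc hc₀).mp
    refine ⟨x₀⁻¹ * x, ?_⟩
    rw [sing_conj_inv, hx]
    group

open Classical in
theorem sing_count (p : ℕ) [Fact p.Prime] (z : G) (ζ : G → ℂ) (h : Hyp G p z ζ)
    (hl : Loc G p z ζ) (g : G) :
    (∑ x : G, ∑ t : ZMod p, ∑ c : G,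
      (if t ≠ 0 ∧ c ∈ Subgroup.center G ∧ x * (z ^ t.val * c) * x⁻¹ = g then (1 : ℂ)
        else 0)) =
      if p ∣ orderOf g then (2 * (p : ℂ) * (Nat.card (Subgroup.center G) : ℂ)) else 0 := by
  classical
  have hp : p.Prime := Fact.out
  by_cases hg : p ∣ orderOf g
  · rw [if_pos hg]
    obtain ⟨x₀, t₀, ht₀, c₀, hc₀, rfl⟩ := psd p z ζ h hl g hg
    have hne : t₀ ≠ -t₀ := by
      intro h0
      have h1 : t₀ + t₀ = t₀ + -t₀ := congrArg (fun s => t₀ + s) h0
      rw [add_neg_cancel, ← two_mul] at h1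
      rcases mul_eq_zero.mp h1 with h3 | h3
      · have h4 : ((2 : ℕ) : ZMod p) = 0 := by exact_mod_cast h3
        rw [ZMod.natCast_eq_zero_iff] at h4
        have h5 := Nat.le_of_dvd (by norm_num) h4
        have h6 := h.p5
        omega
      · exact ht₀ h3
    calc (∑ x : G, ∑ t : ZMod p, ∑ c : G,
          (if t ≠ 0 ∧ c ∈ Subgroup.center G ∧
            x * (z ^ t.val * c) * x⁻¹ = x₀ * (z ^ t₀.val * c₀) * x₀⁻¹ then (1 : ℂ) else 0))
        = ∑ t : ZMod p, ∑ c : G, ∑ x : G,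
          (if t ≠ 0 ∧ c ∈ Subgroup.center G ∧
            x * (z ^ t.val * c) * x⁻¹ = x₀ * (z ^ t₀.val * c₀) * x₀⁻¹ then (1 : ℂ)
            else 0) := by
          rw [Finset.sum_comm]
          exact Finset.sum_congr rfl (fun t _ => Finset.sum_comm)
      _ = ∑ t : ZMod p, ∑ c : G, (if c = c₀ ∧ (t = t₀ ∨ t = -t₀) then
            ((p * Nat.card (Subgroup.center G) : ℕ) : ℂ) else 0) :=
          Finset.sum_congr rfl (fun t _ => Finset.sum_congr rfl (fun c _ =>
            sing_inner p z ζ h hl x₀ t₀ ht₀ c₀ hc₀ t c))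
      _ = ∑ t : ZMod p, (if (t = t₀ ∨ t = -t₀) then
            ((p * Nat.card (Subgroup.center G) : ℕ) : ℂ) else 0) := by
          apply Finset.sum_congr rfl
          intro t _
          by_cases htt : t = t₀ ∨ t = -t₀
          · simp only [htt, and_true, if_true]
            rw [Finset.sum_ite_eq']
            simp
          · simp only [htt, and_false, if_false]
            exact Finset.sum_const_zero
      _ = (2 * (p : ℂ) * (Nat.card (Subgroup.center G) : ℂ)) := by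
          have hsplit : ∀ t : ZMod p, (if (t = t₀ ∨ t = -t₀) then
              ((p * Nat.card (Subgroup.center G) : ℕ) : ℂ) else 0) =
              (if t = t₀ then ((p * Nat.card (Subgroup.center G) : ℕ) : ℂ) else 0) +
              (if t = -t₀ then ((p * Nat.card (Subgroup.center G) : ℕ) : ℂ) else 0) := by
            intro t
            by_cases h1 : t = t₀
            · rw [h1]
              simp [hne]
            · simp [h1]
          simp only [hsplit, Finset.sum_add_distrib, Finset.sum_ite_eq', Finset.mem_univ,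
            if_true]
          push_cast
          ring
  · rw [if_neg hg]
    apply Finset.sum_eq_zero
    intro x _
    apply Finset.sum_eq_zero
    intro t _
    apply Finset.sum_eq_zero
    intro c _
    rw [if_neg]
    rintro ⟨ht, hc, hx⟩
    exact hg (hx ▸ sing_dvd_order p z ζ h t ht c hc x)

theorem sing_sum_swap {A B C D : Type*} [Fintype A] [Fintype B] [Fintype C] [Fintype D]
    (f : A → B → C → D → ℂ) :
    ∑ a : A, ∑ b : B, ∑ c : C, ∑ d : D, f a b c d =
      ∑ d : D, ∑ a : A, ∑ b : B, ∑ c : C, f a b c d := by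
  calc ∑ a : A, ∑ b : B, ∑ c : C, ∑ d : D, f a b c d
      = ∑ a : A, ∑ b : B, ∑ d : D, ∑ c : C, f a b c d :=
        Finset.sum_congr rfl (fun a _ => Finset.sum_congr rfl (fun b _ => Finset.sum_comm))
    _ = ∑ a : A, ∑ d : D, ∑ b : B, ∑ c : C, f a b c d :=
        Finset.sum_congr rfl (fun a _ => Finset.sum_comm)
    _ = ∑ d : D, ∑ a : A, ∑ b : B, ∑ c : C, f a b c d := Finset.sum_comm

/-- PIECE SING -/
theorem sing (p : ℕ) [Fact p.Prime] (z : G) (ζ : G → ℂ) (h : Hyp G p z ζ)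
    (hl : Loc G p z ζ) : Sing p z := by
  classical
  have hp : p.Prime := Fact.out
  unfold Sing
  intro F hF
  have hZ0 : (Nat.card (Subgroup.center G) : ℂ) ≠ 0 := by
    exact_mod_cast (Nat.card_pos (α := Subgroup.center G)).ne'
  have hp0 : (p : ℂ) ≠ 0 := by exact_mod_cast hp.ne_zero
  have e1 : (Nat.card G : ℂ) * ∑ t : ZMod p, ∑ c : G,
      (if t ≠ 0 ∧ c ∈ Subgroup.center G then F (z ^ t.val * c) else 0) =
      ∑ x : G, ∑ t : ZMod p, ∑ c : G, ∑ g : G,
        (if t ≠ 0 ∧ c ∈ Subgroup.center G ∧ x * (z ^ t.val * c) * x⁻¹ = g then F g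
          else 0) := by
    rw [Nat.card_eq_fintype_card, ← Finset.card_univ, ← nsmul_eq_mul, ← Finset.sum_const]
    apply Finset.sum_congr rfl
    intro x _
    apply Finset.sum_congr rfl
    intro t _
    apply Finset.sum_congr rfl
    intro c _
    by_cases hcond : t ≠ 0 ∧ c ∈ Subgroup.center G
    · rw [if_pos hcond]
      have hsimp : ∀ g : G, (t ≠ 0 ∧ c ∈ Subgroup.center G ∧
          x * (z ^ t.val * c) * x⁻¹ = g) ↔ x * (z ^ t.val * c) * x⁻¹ = g :=
        fun g => ⟨fun hh => hh.2.2, fun hh => ⟨hcond.1, hcond.2, hh⟩⟩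
      simp only [hsimp]
      rw [Finset.sum_ite_eq, if_pos (Finset.mem_univ _), hF]
    · rw [if_neg hcond]
      symm
      apply Finset.sum_eq_zero
      intro g _
      rw [if_neg]
      rintro ⟨h1, h2, -⟩
      exact hcond ⟨h1, h2⟩
  have e2 : ∑ x : G, ∑ t : ZMod p, ∑ c : G, ∑ g : G,
        (if t ≠ 0 ∧ c ∈ Subgroup.center G ∧ x * (z ^ t.val * c) * x⁻¹ = g then F g
          else 0) =
      ∑ g : G, F g * ∑ x : G, ∑ t : ZMod p, ∑ c : G,
        (if t ≠ 0 ∧ c ∈ Subgroup.center G ∧ x * (z ^ t.val * c) * x⁻¹ = g then (1 : ℂ)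
          else 0) := by
    rw [sing_sum_swap]
    apply Finset.sum_congr rfl
    intro g _
    rw [Finset.mul_sum]
    apply Finset.sum_congr rfl
    intro x _
    rw [Finset.mul_sum]
    apply Finset.sum_congr rfl
    intro t _
    rw [Finset.mul_sum]
    apply Finset.sum_congr rfl
    intro c _
    rw [mul_ite, mul_one, mul_zero]
  have key : (2 * (p : ℂ) * (Nat.card (Subgroup.center G) : ℂ)) *
      ∑ g : G, (if p ∣ orderOf g then F g else 0) =
      (Nat.card G : ℂ) * ∑ t : ZMod p, ∑ c : G,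
        (if t ≠ 0 ∧ c ∈ Subgroup.center G then F (z ^ t.val * c) else 0) := by
    rw [e1, e2, Finset.mul_sum]
    apply Finset.sum_congr rfl
    intro g _
    rw [sing_count p z ζ h hl g]
    split_ifs <;> ring
  rw [div_mul_eq_mul_div, eq_div_iff (mul_ne_zero (mul_ne_zero two_ne_zero hp0) hZ0)]
  rw [← key]
  ring

end Cfsg.Agent.Lib.Helper93.PT
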