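import Mathlib
import Cfsg.Prelude.Def_Spor_Ru

set_option autoImplicit false

namespace Cfsg.Agent.Lib.Helper93.RuLat

open Cfsg Cfsg.Spor

/-- A Gaussian integer from a pair. -/
def gz (x : ℤ × ℤ) : GaussianInt := ⟨x.1, x.2⟩

/-- Linear index of a coordinate. -/
def ix (p : RuIdx) : ℕ := 4 * p.1.val + p.2.val

/-- A coordinate vector from a list of 28 pairs. -/
def vecT (l : List (ℤ × ℤ)) : RuVec := fun p => gz (l.getD (ix p) (0, 0))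

/-- Row `k` of a table, as a coordinate vector. -/
def rowT (t : List (List (ℤ × ℤ))) (k : ℕ) : RuVec := vecT (t.getD k [])

/-- Entry `(k, l)` of a table, as a Gaussian integer. -/
def cfOf (t : List (List (ℤ × ℤ))) (k l : ℕ) : GaussianInt := gz ((t.getD k []).getD l (0, 0))

/-- The Hermitian product. -/
def herm (x y : RuVec) : GaussianInt := ∑ p, x p * star (y p)

/-- Divisibility by 4 of a Gaussian integer, componentwise. -/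
def D4 (z : GaussianInt) : Prop := (4 : ℤ) ∣ z.re ∧ (4 : ℤ) ∣ z.im

instance (z : GaussianInt) : Decidable (D4 z) := by unfold D4; infer_instance

/-- The residue of a Gaussian integer modulo `1 + i`. -/
def phi (z : GaussianInt) : ZMod 2 := if (z.re + z.im) % 2 = 0 then 0 else 1

/-- Bit `i` of a mask as an element of `ZMod 2`. -/
def bitZ (m i : ℕ) : ZMod 2 := if m.testBit i then 1 else 0

/-- The weight of a binary word. -/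
def wt (w : RuIdx → ZMod 2) : ℕ := (Finset.univ.filter (fun p => w p = 1)).card

/-- All sums of sublists of a list of masks. -/
def sums : List ℕ → List ℕ
  | [] => [0]
  | g :: rest => (sums rest).flatMap (fun x => [x, x ^^^ g])

/-- The basis of the lattice, in Hermite form. -/
def betaT : List (List (ℤ × ℤ)) := [
  [(1, 0), (0, 0), (0, 0), (0, -1), (0, 0), (0, -1), (0, 0), (0, -1), (0, 0), (0, 0), (0, 0), (-1, -1), (0, 0), (0, -1), (-1, 0), (0, 0), (0, -1), (-1, 0), (0, 0), (1, -1), (0, -1), (0, 1), (1, -1), (-2, -2), (1, 0), (-1, 1), (-2, 1), (-2, -2)],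
  [(0, 0), (1, 0), (0, 0), (0, -1), (0, 0), (0, -1), (0, -1), (0, 0), (0, 0), (0, -1), (-1, -1), (1, 0), (0, -1), (-1, 0), (0, -1), (-1, 0), (0, 0), (0, 1), (0, -1), (1, -1), (0, -1), (-1, 0), (0, 0), (-1, -1), (0, -2), (1, 1), (-1, 0), (-2, -1)],
  [(0, 0), (0, 0), (1, 0), (0, -1), (0, 0), (0, 0), (0, -1), (0, -1), (0, 0), (0, -1), (-1, -1), (0, -1), (0, -1), (0, 0), (0, 0), (1, 0), (0, -1), (-1, -1), (0, -1), (0, 0), (0, 0), (1, -1), (0, 0), (-2, -2), (-1, -1), (1, -2), (1, -2), (-2, 0)],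
  [(0, 0), (0, 0), (0, 0), (1, 1), (0, 0), (0, -1), (0, -1), (-1, -1), (0, 0), (0, 0), (0, -1), (-1, 0), (0, 0), (0, 0), (-1, 0), (1, 0), (0, -1), (0, 0), (-1, 0), (-1, 1), (-1, 0), (0, 0), (0, 0), (-2, 1), (1, -1), (0, -1), (-2, -2), (1, 0)],
  [(0, 0), (0, 0), (0, 0), (0, 0), (1, 0), (0, -1), (0, -1), (0, -1), (0, 0), (0, 0), (-1, -1), (-1, -1), (0, 0), (-1, -1), (-1, -1), (0, -2), (0, 0), (0, 0), (-1, -1), (-1, 1), (-1, 0), (0, 1), (-1, 0), (1, 0), (-1, -1), (-2, 0), (-1, -1), (0, 0)],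
  [(0, 0), (0, 0), (0, 0), (0, 0), (0, 0), (1, 1), (0, 0), (-1, -1), (0, 0), (0, 0), (-1, -1), (-1, -1), (0, -1), (0, -1), (-1, 0), (0, 1), (0, -1), (0, -1), (-1, 0), (0, 1), (-1, -1), (1, -1), (0, 0), (0, 0), (-1, -1), (0, -2), (-1, 1), (-2, 0)],
  [(0, 0), (0, 0), (0, 0), (0, 0), (0, 0), (0, 0), (1, 1), (-1, -1), (0, 0), (0, 0), (0, 0), (0, 0), (0, -1), (0, -1), (0, -1), (-1, 0), (0, -1), (1, 0), (-1, 0), (-1, 0), (0, 0), (-1, -1), (0, 0), (-1, 1), (1, -1), (1, -1), (1, -1), (-1, 1)],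
  [(0, 0), (0, 0), (0, 0), (0, 0), (0, 0), (0, 0), (0, 0), (2, 0), (0, 0), (0, 0), (-1, -1), (1, -1), (0, 0), (0, 0), (0, 0), (0, -2), (0, -1), (0, -1), (0, -1), (-1, -2), (0, -1), (1, 0), (1, 0), (1, -2), (0, 0), (1, 1), (-2, -2), (-1, -1)],
  [(0, 0), (0, 0), (0, 0), (0, 0), (0, 0), (0, 0), (0, 0), (0, 0), (1, 0), (0, -1), (0, -1), (0, 1), (0, 0), (0, 0), (0, 0), (0, -2), (0, 0), (1, -1), (-1, -1), (-2, 0), (0, -1), (0, -1), (1, 0), (0, 1), (0, -2), (-2, 0), (-1, 1), (1, 1)],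
  [(0, 0), (0, 0), (0, 0), (0, 0), (0, 0), (0, 0), (0, 0), (0, 0), (0, 0), (1, 1), (0, 0), (1, -1), (0, 0), (0, 0), (0, 0), (0, -2), (0, -1), (0, 1), (-1, 0), (0, 1), (-1, -1), (-1, -1), (0, 0), (0, -2), (1, 0), (-2, -1), (-1, -2), (-1, 0)],
  [(0, 0), (0, 0), (0, 0), (0, 0), (0, 0), (0, 0), (0, 0), (0, 0), (0, 0), (0, 0), (2, 0), (0, -2), (0, 0), (0, 0), (0, 0), (0, 0), (0, 0), (0, -2), (0, 0), (-2, 0), (0, 0), (0, -2), (0, -2), (0, 0), (0, -2), (0, 0), (-2, 0), (0, 0)],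
  [(0, 0), (0, 0), (0, 0), (0, 0), (0, 0), (0, 0), (0, 0), (0, 0), (0, 0), (0, 0), (0, 0), (2, 2), (0, 0), (0, 0), (0, 0), (0, 0), (0, 0), (0, 0), (0, 0), (-2, -2), (-1, -1), (1, -1), (-1, -1), (1, 1), (1, -1), (1, -1), (1, -1), (-1, -1)],
  [(0, 0), (0, 0), (0, 0), (0, 0), (0, 0), (0, 0), (0, 0), (0, 0), (0, 0), (0, 0), (0, 0), (0, 0), (1, 1), (-1, -1), (-1, -1), (1, -1), (0, 0), (0, -2), (0, 0), (0, -2), (-1, -1), (-1, -1), (-1, -1), (1, -1), (0, 0), (0, 0), (-2, 0), (-2, 0)],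
  [(0, 0), (0, 0), (0, 0), (0, 0), (0, 0), (0, 0), (0, 0), (0, 0), (0, 0), (0, 0), (0, 0), (0, 0), (0, 0), (2, 0), (0, 0), (0, -2), (0, 0), (0, -2), (0, 0), (0, -2), (-1, -1), (1, -1), (1, -1), (-1, 1), (1, -1), (-1, -1), (-1, 1), (-1, 1)],
  [(0, 0), (0, 0), (0, 0), (0, 0), (0, 0), (0, 0), (0, 0), (0, 0), (0, 0), (0, 0), (0, 0), (0, 0), (0, 0), (0, 0), (2, 0), (0, -2), (0, 0), (0, 0), (0, 0), (0, 0), (-1, -1), (1, -1), (1, -1), (-1, 1), (1, -1), (1, -1), (-1, -1), (-1, 1)],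
  [(0, 0), (0, 0), (0, 0), (0, 0), (0, 0), (0, 0), (0, 0), (0, 0), (0, 0), (0, 0), (0, 0), (0, 0), (0, 0), (0, 0), (0, 0), (2, 2), (0, 0), (0, -2), (0, 0), (-2, 0), (-1, -1), (1, -1), (1, -1), (-1, 1), (-1, -1), (-1, 1), (-1, 1), (1, -1)],
  [(0, 0), (0, 0), (0, 0), (0, 0), (0, 0), (0, 0), (0, 0), (0, 0), (0, 0), (0, 0), (0, 0), (0, 0), (0, 0), (0, 0), (0, 0), (0, 0), (1, 1), (-1, -1), (-1, -1), (-1, 1), (0, 0), (0, 0), (0, -2), (-2, 0), (-1, -1), (-1, -1), (-1, -1), (1, -1)],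
  [(0, 0), (0, 0), (0, 0), (0, 0), (0, 0), (0, 0), (0, 0), (0, 0), (0, 0), (0, 0), (0, 0), (0, 0), (0, 0), (0, 0), (0, 0), (0, 0), (0, 0), (2, 2), (0, 0), (-2, -2), (0, 0), (0, 0), (0, 0), (0, 0), (0, -2), (0, -2), (-2, 0), (0, -2)],
  [(0, 0), (0, 0), (0, 0), (0, 0), (0, 0), (0, 0), (0, 0), (0, 0), (0, 0), (0, 0), (0, 0), (0, 0), (0, 0), (0, 0), (0, 0), (0, 0), (0, 0), (0, 0), (2, 0), (-2, 0), (-1, -1), (1, -1), (1, -1), (-1, 1), (1, -1), (1, 1), (-1, 1), (-1, 1)],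
  [(0, 0), (0, 0), (0, 0), (0, 0), (0, 0), (0, 0), (0, 0), (0, 0), (0, 0), (0, 0), (0, 0), (0, 0), (0, 0), (0, 0), (0, 0), (0, 0), (0, 0), (0, 0), (0, 0), (4, 0), (0, 0), (0, 0), (0, 0), (0, 0), (0, 0), (0, 0), (0, 0), (0, 0)],
  [(0, 0), (0, 0), (0, 0), (0, 0), (0, 0), (0, 0), (0, 0), (0, 0), (0, 0), (0, 0), (0, 0), (0, 0), (0, 0), (0, 0), (0, 0), (0, 0), (0, 0), (0, 0), (0, 0), (0, 0), (2, 0), (0, -2), (0, -2), (0, -2), (0, 0), (-2, -2), (0, 0), (-2, -2)],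
  [(0, 0), (0, 0), (0, 0), (0, 0), (0, 0), (0, 0), (0, 0), (0, 0), (0, 0), (0, 0), (0, 0), (0, 0), (0, 0), (0, 0), (0, 0), (0, 0), (0, 0), (0, 0), (0, 0), (0, 0), (0, 0), (2, 2), (0, 0), (-2, -2), (0, 0), (-2, -2), (-2, -2), (0, 0)],
  [(0, 0), (0, 0), (0, 0), (0, 0), (0, 0), (0, 0), (0, 0), (0, 0), (0, 0), (0, 0), (0, 0), (0, 0), (0, 0), (0, 0), (0, 0), (0, 0), (0, 0), (0, 0), (0, 0), (0, 0), (0, 0), (0, 0), (2, 2), (-2, -2), (0, -2), (-2, 0), (0, -2), (0, -2)],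
  [(0, 0), (0, 0), (0, 0), (0, 0), (0, 0), (0, 0), (0, 0), (0, 0), (0, 0), (0, 0), (0, 0), (0, 0), (0, 0), (0, 0), (0, 0), (0, 0), (0, 0), (0, 0), (0, 0), (0, 0), (0, 0), (0, 0), (0, 0), (4, 0), (0, 0), (0, 0), (0, 0), (0, 0)],
  [(0, 0), (0, 0), (0, 0), (0, 0), (0, 0), (0, 0), (0, 0), (0, 0), (0, 0), (0, 0), (0, 0), (0, 0), (0, 0), (0, 0), (0, 0), (0, 0), (0, 0), (0, 0), (0, 0), (0, 0), (0, 0), (0, 0), (0, 0), (0, 0), (2, 2), (-2, -2), (-2, -2), (-2, -2)],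
  [(0, 0), (0, 0), (0, 0), (0, 0), (0, 0), (0, 0), (0, 0), (0, 0), (0, 0), (0, 0), (0, 0), (0, 0), (0, 0), (0, 0), (0, 0), (0, 0), (0, 0), (0, 0), (0, 0), (0, 0), (0, 0), (0, 0), (0, 0), (0, 0), (0, 0), (4, 0), (0, 0), (0, 0)],
  [(0, 0), (0, 0), (0, 0), (0, 0), (0, 0), (0, 0), (0, 0), (0, 0), (0, 0), (0, 0), (0, 0), (0, 0), (0, 0), (0, 0), (0, 0), (0, 0), (0, 0), (0, 0), (0, 0), (0, 0), (0, 0), (0, 0), (0, 0), (0, 0), (0, 0), (0, 0), (4, 0), (0, 0)],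
  [(0, 0), (0, 0), (0, 0), (0, 0), (0, 0), (0, 0), (0, 0), (0, 0), (0, 0), (0, 0), (0, 0), (0, 0), (0, 0), (0, 0), (0, 0), (0, 0), (0, 0), (0, 0), (0, 0), (0, 0), (0, 0), (0, 0), (0, 0), (0, 0), (0, 0), (0, 0), (0, 0), (4, 0)]]

/-- Coefficients of the generating vectors on the basis. -/
def cfTT : List (List (ℤ × ℤ)) := [
  [(4, 0), (0, 0), (0, 0), (2, 2), (0, 0), (2, 4), (0, 2), (-2, 8), (0, 0), (0, 0), (-7, 7), (-7, 1), (-2, 4), (-6, 4), (0, 4), (-14, 2), (-5, 11), (-28, 1), (-10, 6), (-40, -7), (-34, -4), (-36, -37), (-44, -29), (-9, -73), (-48, -51), (-40, -132), (-12, -87), (-1, -99)],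
  [(0, -1), (1, 0), (1, 0), (2, 0), (0, 0), (2, 1), (2, 2), (2, 5), (0, 0), (1, 1), (0, 7), (-5, 5), (2, 4), (-1, 5), (0, 5), (-9, 10), (1, 9), (-18, 15), (-3, 9), (-30, 16), (-27, 15), (-41, -7), (-46, 0), (-42, -46), (-58, -13), (-94, -71), (-49, -54), (-49, -70)],
  [(0, -1), (1, 0), (-1, 0), (0, 0), (0, 0), (1, 0), (0, 0), (1, 0), (0, 0), (0, 0), (1, 1), (0, 1), (1, 0), (1, 1), (1, 1), (1, 2), (1, 0), (0, 4), (1, 1), (-1, 6), (1, 7), (-6, 7), (-4, 8), (-13, 3), (-8, 8), (-22, 8), (-15, 1), (-15, 2)],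
  [(0, -1), (-1, 0), (1, 0), (0, 0), (0, 0), (0, -1), (0, 0), (1, 0), (0, 0), (0, 0), (1, 0), (1, 0), (1, -1), (2, 0), (1, -2), (3, 2), (2, 0), (5, 4), (1, 1), (5, 8), (6, 4), (1, 10), (3, 10), (-7, 14), (1, 14), (-8, 27), (-10, 16), (-12, 15)],
  [(0, -1), (-1, 0), (-1, 0), (0, -2), (0, 0), (1, -2), (0, -2), (4, -3), (0, 0), (-1, -1), (5, -1), (5, 1), (2, -3), (4, 0), (4, -4), (10, 3), (7, -4), (17, 9), (7, -1), (21, 17), (22, 13), (9, 34), (18, 34), (-19, 49), (12, 49), (-18, 96), (-22, 58), (-34, 63)],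
  [(1, 0), (1, 0), (1, 0), (2, 1), (1, 0), (2, 3), (2, 3), (-1, 8), (1, 0), (1, 2), (-4, 9), (-9, 4), (0, 6), (-5, 6), (-2, 7), (-16, 8), (-4, 12), (-32, 10), (-8, 10), (-47, 3), (-44, 6), (-51, -32), (-61, -25), (-32, -86), (-69, -49), (-84, -145), (-35, -99), (-28, -119)],
  [(1, 0), (1, 0), (1, 0), (2, 1), (0, 0), (1, 3), (2, 3), (-1, 7), (0, 0), (1, 1), (-5, 7), (-8, 3), (-1, 6), (-6, 5), (-3, 6), (-16, 4), (-4, 11), (-30, 4), (-8, 8), (-43, -4), (-41, -1), (-41, -37), (-51, -30), (-15, -81), (-56, -53), (-57, -143), (-18, -93), (-9, -110)],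
  [(1, 0), (1, 0), (1, 0), (2, 1), (0, 0), (2, 3), (1, 3), (-1, 7), (0, 0), (1, 1), (-4, 8), (-8, 4), (0, 6), (-6, 5), (-2, 6), (-16, 5), (-4, 11), (-30, 6), (-8, 8), (-44, -1), (-40, 2), (-43, -33), (-52, -26), (-22, -78), (-59, -49), (-66, -137), (-25, -91), (-16, -108)],
  [(1, 0), (1, 0), (-1, 0), (0, 1), (0, 0), (1, 1), (0, 1), (-1, 2), (0, 0), (0, 0), (-2, 2), (-2, 0), (-1, 2), (-2, 1), (-1, 2), (-5, -1), (-3, 2), (-10, -2), (-3, 0), (-13, -6), (-10, -3), (-8, -13), (-11, -12), (1, -23), (-12, -20), (-4, -45), (1, -29), (8, -31)],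
  [(1, 0), (1, 0), (-1, 0), (0, 1), (0, 0), (0, 1), (-1, 1), (-2, 1), (0, 0), (0, 0), (-3, 0), (-2, -2), (-1, 1), (-1, 0), (-1, 1), (-3, -2), (-4, 1), (-7, -5), (-3, -1), (-8, -9), (-5, -6), (0, -13), (-4, -13), (10, -15), (-2, -19), (15, -34), (12, -22), (18, -21)],
  [(1, 0), (1, 0), (-1, 0), (0, 1), (1, 0), (1, 2), (0, 1), (-1, 3), (0, -1), (1, 0), (-2, 3), (-3, 2), (-1, 2), (-2, 2), (0, 3), (-4, 1), (-3, 4), (-12, 2), (-3, 2), (-17, -2), (-13, 3), (-17, -11), (-20, -7), (-13, -28), (-24, -18), (-27, -51), (-14, -37), (-9, -39)],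
  [(1, 0), (1, 0), (-1, 0), (0, 1), (0, -1), (1, 1), (0, 0), (0, 2), (1, 0), (1, 0), (-1, 2), (-2, 1), (0, 1), (0, 1), (1, 2), (-1, 2), (-1, 3), (-6, 4), (-1, 2), (-9, 3), (-6, 6), (-12, -1), (-15, 2), (-16, -12), (-19, -4), (-28, -21), (-17, -19), (-16, -21)],
  [(1, 0), (-1, 0), (1, 0), (0, 1), (0, -1), (0, 0), (0, 0), (0, 1), (0, 0), (0, 0), (0, 0), (1, 0), (0, 0), (0, 0), (1, -1), (0, 0), (0, 2), (1, 1), (-1, 1), (0, 3), (0, 0), (-1, 1), (-1, 1), (-2, 2), (-2, 2), (-4, 2), (-4, 2), (-3, 0)],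
  [(1, 0), (-1, 0), (1, 0), (0, 1), (-1, 0), (-1, 0), (-1, 0), (-1, 0), (0, 0), (0, 0), (-2, -2), (0, -2), (-1, -1), (-1, -2), (0, -2), (0, -3), (-1, 0), (2, -7), (-2, -1), (4, -7), (2, -8), (9, -7), (8, -8), (18, 2), (14, -8), (32, -2), (20, 2), (22, 4)],
  [(1, 0), (-1, 0), (1, 0), (0, 1), (0, 0), (0, 1), (-1, 1), (-2, 2), (1, 0), (1, 0), (-3, 1), (-2, -1), (-1, 1), (-3, 0), (-1, 0), (-4, -1), (-3, 2), (-8, -4), (-3, 1), (-9, -8), (-8, -6), (-4, -14), (-7, -14), (8, -19), (-5, -21), (11, -40), (9, -24), (15, -27)],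
  [(1, 0), (-1, 0), (1, 0), (0, 1), (0, 0), (0, 0), (-1, 0), (-1, 1), (0, -1), (1, 0), (-1, 0), (0, 0), (0, -1), (0, -1), (1, -1), (1, 0), (0, 1), (2, -1), (0, 0), (2, 0), (3, 0), (2, 1), (2, 2), (1, 6), (2, 2), (5, 7), (-1, 4), (0, 5)],
  [(1, 0), (-1, 0), (-1, 0), (0, -1), (0, 0), (1, 0), (0, -2), (2, -1), (0, -1), (-1, -2), (2, 0), (3, 1), (0, -2), (1, 0), (3, -2), (6, -1), (4, -2), (10, 4), (4, -2), (12, 6), (13, 5), (6, 16), (12, 19), (-7, 26), (9, 27), (-5, 51), (-10, 32), (-17, 38)],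
  [(1, 0), (-1, 0), (-1, 0), (0, -1), (0, 0), (0, 0), (-1, -2), (1, -2), (-1, 0), (-1, -2), (1, -2), (4, -1), (-1, -2), (1, -2), (2, -3), (6, -4), (3, -4), (11, -3), (3, -4), (16, -2), (17, -2), (16, 12), (23, 12), (10, 31), (24, 21), (27, 54), (9, 38), (6, 47)],
  [(1, 0), (-1, 0), (-1, 0), (0, -1), (0, -1), (1, -1), (0, -2), (3, -1), (0, 0), (-1, -1), (3, 0), (3, 1), (1, -2), (3, 0), (4, -3), (8, 2), (5, -2), (12, 8), (5, -1), (13, 13), (15, 10), (4, 24), (10, 26), (-17, 33), (5, 36), (-19, 66), (-20, 39), (-30, 43)],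
  [(1, 0), (-1, 0), (-1, 0), (0, -1), (1, 0), (1, 0), (0, -1), (2, 0), (0, 0), (-1, -1), (2, 1), (2, 1), (0, -1), (1, 1), (3, -1), (4, 2), (2, -1), (4, 6), (2, 0), (4, 8), (6, 7), (-3, 13), (1, 14), (-15, 12), (-3, 18), (-20, 28), (-16, 15), (-21, 17)]]

/-- Coefficients of the images of the basis under `ruRj`. -/
def ajT : List (List (ℤ × ℤ)) := [
  [(0, 0), (0, 1), (0, -1), (0, 0), (1, 0), (0, 1), (0, 0), (0, 1), (0, 0), (0, 0), (-1, 1), (-1, 0), (0, 0), (0, 1), (0, 1), (0, 2), (-1, 0), (-3, 1), (0, 0), (-4, 0), (-4, 2), (-6, -2), (-8, -2), (-6, -10), (-8, -5), (-10, -14), (-4, -12), (-4, -13)],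
  [(0, 1), (0, 0), (0, -1), (0, 0), (1, 0), (0, 1), (1, 0), (0, 2), (1, 0), (1, 0), (0, 2), (-1, 2), (0, 0), (0, 1), (0, 2), (0, 4), (-1, 3), (-5, 6), (0, 2), (-7, 6), (-7, 6), (-12, -1), (-16, 2), (-16, -14), (-19, -1), (-30, -18), (-18, -16), (-21, -21)],
  [(0, 0), (0, 0), (0, -1), (0, 0), (0, 0), (0, 0), (0, -1), (1, 0), (1, 0), (1, 0), (1, 0), (1, 1), (1, -1), (2, 0), (2, 0), (4, 4), (2, -1), (4, 5), (3, 1), (5, 9), (5, 11), (-4, 14), (-4, 15), (-19, 11), (-6, 16), (-24, 28), (-19, 11), (-24, 12)],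
  [(0, 0), (0, 0), (1, 1), (0, 1), (1, 0), (0, 1), (-1, 2), (-3, 3), (0, 0), (0, 1), (-4, 2), (-4, -1), (-2, 2), (-3, 0), (-2, 1), (-7, -2), (-6, 3), (-13, -6), (-7, 1), (-17, -12), (-15, -12), (-7, -25), (-12, -26), (14, -36), (-7, -37), (18, -71), (17, -42), (28, -46)],
  [(0, 0), (0, 0), (0, 0), (0, 0), (1, 0), (1, 1), (0, 0), (0, 2), (0, 0), (0, 0), (-1, 2), (-1, 1), (0, 0), (0, 1), (1, 0), (0, 2), (-1, 2), (-4, 4), (-2, 2), (-7, 4), (-5, 3), (-10, -2), (-10, -1), (-10, -12), (-12, -4), (-18, -17), (-10, -13), (-10, -15)],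
  [(0, 0), (0, 0), (0, 0), (0, 0), (-1, 1), (-1, 0), (-2, 0), (-2, -2), (0, 0), (0, 0), (-2, -3), (1, -3), (-1, -2), (0, -3), (-1, -2), (2, -5), (-1, -4), (6, -11), (0, -3), (12, -11), (10, -9), (18, -3), (19, -6), (25, 14), (27, -4), (52, 18), (29, 14), (33, 23)],
  [(0, 0), (0, 0), (0, 0), (0, 0), (0, 0), (0, 0), (-1, 0), (-1, -1), (0, 0), (0, 0), (0, -1), (1, -1), (0, -1), (1, -1), (0, -1), (2, -1), (0, -1), (4, -2), (0, -1), (6, -1), (6, -2), (7, 3), (8, 2), (6, 11), (10, 5), (15, 18), (6, 12), (6, 15)],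
  [(0, 0), (0, 0), (0, 0), (0, 0), (0, 0), (0, 0), (1, -1), (1, 0), (0, 0), (0, 0), (1, 0), (1, 1), (1, 0), (1, 1), (1, 0), (1, 2), (2, 0), (2, 4), (1, 0), (1, 6), (1, 6), (-3, 6), (-2, 7), (-10, 4), (-4, 10), (-17, 14), (-11, 7), (-14, 7)],
  [(0, 0), (0, 0), (0, 0), (0, 0), (0, 0), (0, 0), (0, 0), (0, 0), (1, 0), (1, 1), (0, 1), (-1, 1), (0, 0), (0, 0), (0, -1), (1, 1), (1, 1), (0, 2), (0, 2), (0, 3), (-1, 3), (-3, 2), (-4, 4), (-7, 0), (-6, 2), (-9, 1), (-7, -2), (-10, -3)],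
  [(0, 0), (0, 0), (0, 0), (0, 0), (0, 0), (0, 0), (0, 0), (0, 0), (-1, 1), (-1, 0), (0, -1), (1, -1), (0, 0), (0, 0), (0, -1), (-1, -1), (-1, 0), (0, -2), (-2, 0), (0, -1), (0, -4), (3, -4), (3, -6), (8, -2), (5, -5), (12, -4), (10, 0), (12, 0)],
  [(0, 0), (0, 0), (0, 0), (0, 0), (0, 0), (0, 0), (0, 0), (0, 0), (0, 0), (0, 0), (0, -1), (0, 0), (0, 0), (0, 0), (0, 0), (0, 0), (1, -1), (1, -1), (0, 0), (1, -1), (1, 0), (1, 0), (2, 0), (2, 2), (3, 0), (5, 3), (3, 2), (3, 4)],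
  [(0, 0), (0, 0), (0, 0), (0, 0), (0, 0), (0, 0), (0, 0), (0, 0), (0, 0), (0, 0), (1, 1), (0, 1), (0, 0), (0, 0), (0, 0), (0, 0), (0, 0), (0, 1), (-1, -1), (-1, 1), (0, 0), (0, 0), (1, 1), (0, 1), (0, 2), (-1, 2), (-2, 2), (-3, 2)],
  [(0, 0), (0, 0), (0, 0), (0, 0), (0, 0), (0, 0), (0, 0), (0, 0), (0, 0), (0, 0), (0, 0), (0, 0), (0, -1), (0, 0), (1, -1), (2, 0), (1, -1), (2, 0), (1, -1), (3, 0), (4, 0), (3, 3), (4, 3), (2, 7), (4, 5), (4, 12), (0, 8), (0, 9)],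
  [(0, 0), (0, 0), (0, 0), (0, 0), (0, 0), (0, 0), (0, 0), (0, 0), (0, 0), (0, 0), (0, 0), (0, 0), (1, 1), (0, 1), (0, 0), (-1, 1), (1, -1), (-1, 1), (1, -1), (-2, 0), (0, 2), (-1, 1), (0, 2), (-3, 1), (-2, 1), (-4, 2), (-3, 1), (-3, 0)],
  [(0, 0), (0, 0), (0, 0), (0, 0), (0, 0), (0, 0), (0, 0), (0, 0), (0, 0), (0, 0), (0, 0), (0, 0), (0, 0), (0, 0), (0, -1), (0, 0), (0, 0), (0, 0), (0, 0), (0, 0), (1, 0), (1, 0), (1, 1), (0, 2), (1, 1), (2, 3), (0, 2), (0, 2)],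
  [(0, 0), (0, 0), (0, 0), (0, 0), (0, 0), (0, 0), (0, 0), (0, 0), (0, 0), (0, 0), (0, 0), (0, 0), (0, 0), (0, 0), (1, 1), (0, 1), (1, -1), (0, 0), (0, 0), (0, 0), (0, 2), (-2, 1), (-1, 2), (-3, 0), (-2, 1), (-4, 1), (-3, -1), (-3, 0)],
  [(0, 0), (0, 0), (0, 0), (0, 0), (0, 0), (0, 0), (0, 0), (0, 0), (0, 0), (0, 0), (0, 0), (0, 0), (0, 0), (0, 0), (0, 0), (0, 0), (0, -1), (0, 0), (0, 0), (0, 0), (0, 0), (0, 0), (0, 0), (0, 0), (0, -1), (1, -1), (1, -1), (1, 0)],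
  [(0, 0), (0, 0), (0, 0), (0, 0), (0, 0), (0, 0), (0, 0), (0, 0), (0, 0), (0, 0), (0, 0), (0, 0), (0, 0), (0, 0), (0, 0), (0, 0), (0, 2), (0, 1), (-2, 0), (-1, 1), (-1, -1), (0, -2), (-1, -1), (1, -1), (0, -1), (1, -2), (1, -1), (0, -2)],
  [(0, 0), (0, 0), (0, 0), (0, 0), (0, 0), (0, 0), (0, 0), (0, 0), (0, 0), (0, 0), (0, 0), (0, 0), (0, 0), (0, 0), (0, 0), (0, 0), (0, 0), (0, 0), (-1, 0), (-1, 0), (0, 0), (0, -1), (0, 0), (0, 0), (0, 0), (1, 0), (0, 0), (0, 0)],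
  [(0, 0), (0, 0), (0, 0), (0, 0), (0, 0), (0, 0), (0, 0), (0, 0), (0, 0), (0, 0), (0, 0), (0, 0), (0, 0), (0, 0), (0, 0), (0, 0), (0, 0), (0, 0), (2, 0), (1, 0), (1, 1), (0, 2), (0, 2), (-2, 2), (-1, 2), (-3, 3), (-3, 1), (-2, 1)],
  [(0, 0), (0, 0), (0, 0), (0, 0), (0, 0), (0, 0), (0, 0), (0, 0), (0, 0), (0, 0), (0, 0), (0, 0), (0, 0), (0, 0), (0, 0), (0, 0), (0, 0), (0, 0), (0, 0), (0, 0), (1, 0), (1, 1), (0, 0), (0, 2), (0, -1), (1, 1), (0, 0), (1, 0)],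
  [(0, 0), (0, 0), (0, 0), (0, 0), (0, 0), (0, 0), (0, 0), (0, 0), (0, 0), (0, 0), (0, 0), (0, 0), (0, 0), (0, 0), (0, 0), (0, 0), (0, 0), (0, 0), (0, 0), (0, 0), (-1, 1), (-1, 0), (-2, 0), (-2, -2), (-1, -2), (-2, -2), (0, -3), (0, -2)],
  [(0, 0), (0, 0), (0, 0), (0, 0), (0, 0), (0, 0), (0, 0), (0, 0), (0, 0), (0, 0), (0, 0), (0, 0), (0, 0), (0, 0), (0, 0), (0, 0), (0, 0), (0, 0), (0, 0), (0, 0), (0, 0), (0, 0), (-1, 0), (-1, -1), (-1, -1), (0, -1), (0, -2), (0, -1)],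
  [(0, 0), (0, 0), (0, 0), (0, 0), (0, 0), (0, 0), (0, 0), (0, 0), (0, 0), (0, 0), (0, 0), (0, 0), (0, 0), (0, 0), (0, 0), (0, 0), (0, 0), (0, 0), (0, 0), (0, 0), (0, 0), (0, 0), (1, -1), (1, 0), (1, 0), (1, 0), (1, 1), (1, 1)],
  [(0, 0), (0, 0), (0, 0), (0, 0), (0, 0), (0, 0), (0, 0), (0, 0), (0, 0), (0, 0), (0, 0), (0, 0), (0, 0), (0, 0), (0, 0), (0, 0), (0, 0), (0, 0), (0, 0), (0, 0), (0, 0), (0, 0), (0, 0), (0, 0), (0, -1), (0, 0), (0, -1), (1, 0)],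
  [(0, 0), (0, 0), (0, 0), (0, 0), (0, 0), (0, 0), (0, 0), (0, 0), (0, 0), (0, 0), (0, 0), (0, 0), (0, 0), (0, 0), (0, 0), (0, 0), (0, 0), (0, 0), (0, 0), (0, 0), (0, 0), (0, 0), (0, 0), (0, 0), (1, 1), (0, 1), (0, 1), (0, 1)],
  [(0, 0), (0, 0), (0, 0), (0, 0), (0, 0), (0, 0), (0, 0), (0, 0), (0, 0), (0, 0), (0, 0), (0, 0), (0, 0), (0, 0), (0, 0), (0, 0), (0, 0), (0, 0), (0, 0), (0, 0), (0, 0), (0, 0), (0, 0), (0, 0), (0, 0), (0, 0), (0, 0), (-1, 0)],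
  [(0, 0), (0, 0), (0, 0), (0, 0), (0, 0), (0, 0), (0, 0), (0, 0), (0, 0), (0, 0), (0, 0), (0, 0), (0, 0), (0, 0), (0, 0), (0, 0), (0, 0), (0, 0), (0, 0), (0, 0), (0, 0), (0, 0), (0, 0), (0, 0), (0, 0), (0, 0), (1, 0), (0, 0)]]

/-- Coefficients of the images of the basis under `ruRk`. -/
def akT : List (List (ℤ × ℤ)) := [
  [(0, 0), (0, 1), (0, 1), (-1, 1), (0, 0), (-1, 1), (-2, 1), (-4, -1), (0, 0), (0, 1), (-4, -2), (-2, -4), (-4, 0), (-3, -3), (-4, -2), (-3, -10), (-6, -2), (-3, -17), (-4, -4), (1, -25), (0, -22), (20, -22), (16, -28), (43, -8), (27, -32), (77, -33), (49, -12), (60, -6)],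
  [(0, 0), (0, 1), (0, 0), (0, 0), (1, 0), (0, 1), (0, 1), (-1, 1), (1, -1), (0, 1), (-1, 2), (-3, 0), (-1, 1), (-1, 1), (-1, 1), (-2, 1), (-2, 1), (-6, 1), (-1, 1), (-8, -3), (-8, -1), (-7, -7), (-10, -7), (-3, -17), (-10, -12), (-7, -30), (-1, -20), (-1, -22)],
  [(0, 1), (0, 1), (0, 0), (-1, 1), (1, 0), (-1, 2), (-1, 1), (-4, 1), (1, -1), (1, 1), (-4, 0), (-4, -2), (-3, 1), (-4, -1), (-3, 1), (-4, -5), (-6, 0), (-9, -11), (-3, -2), (-8, -21), (-9, -14), (5, -23), (-2, -25), (24, -25), (7, -35), (42, -55), (31, -31), (38, -30)],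
  [(0, 0), (-1, -1), (0, 0), (0, -1), (1, 0), (2, -1), (1, -1), (3, 0), (1, 0), (1, -1), (4, 2), (3, 4), (2, -1), (2, 2), (4, 0), (5, 7), (5, 1), (5, 14), (6, 3), (5, 20), (7, 20), (-12, 26), (-8, 30), (-39, 20), (-19, 34), (-61, 48), (-45, 21), (-53, 18)],
  [(0, 0), (0, 0), (0, 0), (0, 0), (1, 0), (1, 1), (1, 1), (0, 2), (1, -1), (2, 0), (0, 3), (-2, 3), (0, 1), (-1, 3), (0, 2), (-2, 4), (0, 3), (-8, 6), (1, 3), (-11, 4), (-9, 8), (-17, 0), (-19, 3), (-21, -16), (-25, -4), (-40, -26), (-24, -23), (-24, -27)],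
  [(0, 0), (0, 0), (0, 0), (0, 0), (0, 0), (1, 0), (0, 0), (1, 1), (1, -1), (2, 0), (1, 2), (-1, 3), (0, 0), (0, 0), (1, 0), (2, 2), (1, 2), (0, 5), (2, 2), (-1, 6), (0, 8), (-7, 8), (-8, 11), (-18, 3), (-13, 9), (-27, 7), (-21, -1), (-24, -2)],
  [(0, 0), (0, 0), (0, 0), (0, 0), (-1, 1), (0, 0), (-1, 0), (-1, -1), (0, 0), (0, 0), (-1, -1), (0, -1), (0, -1), (0, -1), (0, -1), (0, -2), (-1, -2), (2, -5), (0, -2), (4, -5), (4, -4), (8, -2), (8, -3), (11, 5), (11, -2), (22, 7), (13, 5), (15, 8)],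
  [(0, 0), (0, 0), (0, 0), (0, 0), (0, 0), (-1, 1), (0, 0), (-1, 0), (1, -1), (1, 1), (-1, 0), (-2, 0), (-1, 0), (-1, 0), (-1, 0), (0, -1), (-1, 0), (-1, -2), (1, 0), (0, -5), (-2, -1), (0, -3), (-2, -3), (2, -5), (0, -7), (5, -10), (4, -8), (4, -6)],
  [(0, 0), (0, 0), (0, 0), (0, 0), (0, 0), (0, 0), (0, 0), (0, 0), (1, 0), (0, 0), (0, 1), (-1, 0), (0, 0), (0, 1), (0, 0), (0, 1), (0, -1), (-1, 1), (1, 0), (-1, 0), (-1, 2), (-3, 1), (-3, 1), (-4, -3), (-4, 0), (-7, -3), (-3, -4), (-5, -4)],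
  [(0, 0), (0, 0), (0, 0), (0, 0), (0, 0), (0, 0), (0, 0), (0, 0), (0, 0), (0, 1), (0, 0), (0, 0), (0, 0), (0, 1), (0, 0), (-1, 1), (-1, 0), (-2, 0), (0, 0), (-2, 0), (-2, 1), (-2, 0), (-3, -2), (-3, -4), (-3, -4), (-4, -6), (-1, -5), (0, -7)],
  [(0, 0), (0, 0), (0, 0), (0, 0), (0, 0), (0, 0), (0, 0), (0, 0), (0, 2), (0, 2), (-1, 0), (-1, -1), (0, 0), (0, 0), (0, 0), (-2, 2), (-1, 1), (-3, -1), (-2, 2), (-3, 0), (-5, 0), (-5, -4), (-7, -6), (-2, -11), (-6, -9), (-4, -16), (2, -13), (3, -16)],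
  [(0, 0), (0, 0), (0, 0), (0, 0), (0, 0), (0, 0), (0, 0), (0, 0), (0, 0), (-2, 0), (0, 0), (0, -1), (0, 0), (0, 0), (0, 0), (-1, -1), (-1, -1), (1, -1), (-1, -1), (0, -1), (0, -4), (2, -3), (3, -5), (7, -3), (6, -3), (10, -3), (9, 1), (10, 1)],
  [(0, 0), (0, 0), (0, 0), (0, 0), (0, 0), (0, 0), (0, 0), (0, 0), (0, 0), (0, 0), (0, 0), (0, 0), (0, -1), (0, 0), (0, 0), (0, 0), (0, 0), (1, 0), (0, 0), (1, 0), (1, -1), (1, 0), (1, -1), (2, 1), (1, 0), (3, 1), (2, 1), (2, 1)],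
  [(0, 0), (0, 0), (0, 0), (0, 0), (0, 0), (0, 0), (0, 0), (0, 0), (0, 0), (0, 0), (0, 0), (0, 0), (0, 0), (0, 1), (0, 0), (0, 0), (0, 0), (0, 1), (0, 0), (-1, 0), (0, 1), (-1, 0), (-1, 0), (-1, -1), (-2, 0), (-3, -1), (-1, -1), (-2, -1)],
  [(0, 0), (0, 0), (0, 0), (0, 0), (0, 0), (0, 0), (0, 0), (0, 0), (0, 0), (0, 0), (0, 0), (0, 0), (1, 1), (0, 2), (0, 1), (-2, 2), (0, 0), (-3, 2), (0, 0), (-5, 1), (-3, 3), (-5, -1), (-5, -1), (-5, -6), (-7, -3), (-11, -9), (-4, -7), (-4, -9)],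
  [(0, 0), (0, 0), (0, 0), (0, 0), (0, 0), (0, 0), (0, 0), (0, 0), (0, 0), (0, 0), (0, 0), (0, 0), (0, 0), (-1, -1), (0, 0), (0, -1), (0, 0), (1, -2), (0, 0), (2, -2), (1, -1), (2, -1), (2, -1), (3, 1), (3, -1), (6, 1), (4, 1), (4, 3)],
  [(0, 0), (0, 0), (0, 0), (0, 0), (0, 0), (0, 0), (0, 0), (0, 0), (0, 0), (0, 0), (0, 0), (0, 0), (0, 0), (0, 0), (0, 0), (0, 0), (0, -1), (0, -1), (0, 0), (0, -1), (1, 0), (1, 0), (1, 0), (1, 1), (1, -1), (3, 1), (2, 0), (2, 1)],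
  [(0, 0), (0, 0), (0, 0), (0, 0), (0, 0), (0, 0), (0, 0), (0, 0), (0, 0), (0, 0), (0, 0), (0, 0), (0, 0), (0, 0), (0, 0), (0, 0), (0, 0), (1, 0), (0, 0), (1, 1), (0, 0), (0, 0), (0, 0), (0, 0), (0, 0), (0, 1), (1, 0), (0, 0)],
  [(0, 0), (0, 0), (0, 0), (0, 0), (0, 0), (0, 0), (0, 0), (0, 0), (0, 0), (0, 0), (0, 0), (0, 0), (0, 0), (0, 0), (0, 0), (0, 0), (1, 1), (1, 0), (0, 1), (1, 1), (0, 1), (-1, 0), (-1, 1), (-1, 0), (-1, 1), (-2, 1), (-1, 0), (-2, 1)],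
  [(0, 0), (0, 0), (0, 0), (0, 0), (0, 0), (0, 0), (0, 0), (0, 0), (0, 0), (0, 0), (0, 0), (0, 0), (0, 0), (0, 0), (0, 0), (0, 0), (0, 0), (-1, 1), (0, 0), (-1, 0), (0, 0), (0, 0), (0, 0), (0, 0), (-1, 0), (-1, -1), (-1, 0), (-1, -1)],
  [(0, 0), (0, 0), (0, 0), (0, 0), (0, 0), (0, 0), (0, 0), (0, 0), (0, 0), (0, 0), (0, 0), (0, 0), (0, 0), (0, 0), (0, 0), (0, 0), (0, 0), (0, 0), (0, 0), (0, 0), (1, 0), (1, 1), (1, 1), (0, 2), (0, 1), (1, 3), (-1, 2), (-1, 1)],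
  [(0, 0), (0, 0), (0, 0), (0, 0), (0, 0), (0, 0), (0, 0), (0, 0), (0, 0), (0, 0), (0, 0), (0, 0), (0, 0), (0, 0), (0, 0), (0, 0), (0, 0), (0, 0), (0, 0), (0, 0), (0, 0), (1, 0), (0, 0), (1, 1), (0, -1), (1, 0), (1, 0), (0, -1)],
  [(0, 0), (0, 0), (0, 0), (0, 0), (0, 0), (0, 0), (0, 0), (0, 0), (0, 0), (0, 0), (0, 0), (0, 0), (0, 0), (0, 0), (0, 0), (0, 0), (0, 0), (0, 0), (0, 0), (0, 0), (-1, 1), (0, 0), (-1, 0), (-1, -1), (0, -1), (-1, 0), (1, -1), (-1, -1)],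
  [(0, 0), (0, 0), (0, 0), (0, 0), (0, 0), (0, 0), (0, 0), (0, 0), (0, 0), (0, 0), (0, 0), (0, 0), (0, 0), (0, 0), (0, 0), (0, 0), (0, 0), (0, 0), (0, 0), (0, 0), (0, 0), (-1, 1), (0, 0), (-1, 0), (0, 0), (-1, 0), (-1, 0), (0, 0)],
  [(0, 0), (0, 0), (0, 0), (0, 0), (0, 0), (0, 0), (0, 0), (0, 0), (0, 0), (0, 0), (0, 0), (0, 0), (0, 0), (0, 0), (0, 0), (0, 0), (0, 0), (0, 0), (0, 0), (0, 0), (0, 0), (0, 0), (0, 0), (0, 0), (0, -1), (1, 0), (0, 0), (0, -1)],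
  [(0, 0), (0, 0), (0, 0), (0, 0), (0, 0), (0, 0), (0, 0), (0, 0), (0, 0), (0, 0), (0, 0), (0, 0), (0, 0), (0, 0), (0, 0), (0, 0), (0, 0), (0, 0), (0, 0), (0, 0), (0, 0), (0, 0), (0, 0), (0, 0), (0, 0), (0, 0), (0, 0), (1, 0)],
  [(0, 0), (0, 0), (0, 0), (0, 0), (0, 0), (0, 0), (0, 0), (0, 0), (0, 0), (0, 0), (0, 0), (0, 0), (0, 0), (0, 0), (0, 0), (0, 0), (0, 0), (0, 0), (0, 0), (0, 0), (0, 0), (0, 0), (0, 0), (0, 0), (1, 1), (0, 1), (0, 1), (0, 1)],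
  [(0, 0), (0, 0), (0, 0), (0, 0), (0, 0), (0, 0), (0, 0), (0, 0), (0, 0), (0, 0), (0, 0), (0, 0), (0, 0), (0, 0), (0, 0), (0, 0), (0, 0), (0, 0), (0, 0), (0, 0), (0, 0), (0, 0), (0, 0), (0, 0), (0, 0), (-1, 0), (0, 0), (0, 0)]]

/-- Coefficients of the images of the basis under `ruSign`. -/
def asT : List (List (ℤ × ℤ)) := [
  [(-1, 0), (0, 0), (0, 0), (0, 0), (0, 0), (-1, -1), (0, 0), (0, -2), (0, 0), (0, 0), (1, -2), (1, -1), (0, -1), (1, -1), (0, -1), (3, -1), (0, -3), (5, -2), (2, -2), (9, -2), (8, -1), (10, 6), (11, 4), (7, 16), (12, 8), (16, 25), (7, 17), (6, 20)],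
  [(0, 0), (-1, 0), (0, 0), (0, 0), (0, 0), (-1, -1), (-1, -1), (0, -2), (0, 0), (-1, -1), (0, -3), (3, -3), (0, -2), (2, -2), (1, -2), (5, -2), (1, -4), (10, -3), (2, -4), (15, -2), (15, -3), (17, 9), (20, 6), (13, 27), (24, 15), (31, 46), (14, 33), (12, 38)],
  [(0, 0), (0, 0), (-1, 0), (0, 0), (0, 0), (0, 0), (-1, -1), (0, -2), (0, 0), (-1, -1), (0, -2), (2, -2), (0, -1), (1, -1), (1, -1), (3, -2), (0, -4), (5, -3), (2, -4), (9, -4), (11, -2), (12, 7), (15, 4), (9, 19), (17, 9), (22, 31), (10, 22), (11, 26)],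
  [(0, 0), (0, 0), (0, 0), (-1, 0), (0, 0), (-1, -1), (-1, -1), (-1, -3), (0, 0), (0, 0), (1, -4), (3, -2), (0, -2), (2, -2), (1, -2), (5, -2), (0, -5), (10, -5), (2, -4), (15, -3), (15, -2), (18, 10), (21, 6), (13, 28), (25, 14), (33, 48), (15, 32), (14, 39)],
  [(0, 0), (0, 0), (0, 0), (0, 0), (1, 0), (0, 0), (0, 0), (0, 0), (0, 0), (0, 0), (0, 0), (0, 0), (0, 0), (1, 1), (1, 1), (1, 3), (0, 0), (-1, 3), (0, 0), (-2, 3), (0, 4), (-5, 3), (-4, 3), (-8, -1), (-5, 3), (-12, 2), (-8, -1), (-9, -2)],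
  [(0, 0), (0, 0), (0, 0), (0, 0), (0, 0), (1, 0), (0, 0), (0, 0), (0, 0), (0, 0), (0, 0), (0, 0), (1, 1), (0, 2), (1, 1), (-2, 2), (0, 0), (-3, 2), (0, 0), (-5, 1), (-2, 4), (-5, 2), (-5, 1), (-8, -3), (-7, -1), (-14, -3), (-7, -5), (-5, -7)],
  [(0, 0), (0, 0), (0, 0), (0, 0), (0, 0), (0, 0), (1, 0), (0, 0), (0, 0), (0, 0), (0, 0), (0, 0), (1, 1), (0, 2), (0, 2), (-2, 2), (0, 0), (-3, 2), (0, 0), (-5, 1), (-4, 3), (-5, -1), (-6, -1), (-5, -7), (-8, -2), (-14, -9), (-6, -7), (-5, -10)],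
  [(0, 0), (0, 0), (0, 0), (0, 0), (0, 0), (0, 0), (0, 0), (1, 0), (0, 0), (0, 0), (0, 0), (0, 0), (0, 0), (0, 0), (0, 0), (1, 1), (0, 0), (0, 1), (0, 0), (0, 1), (0, 2), (-2, 2), (-2, 2), (-5, 1), (-2, 1), (-6, 1), (-3, 0), (-4, 0)],
  [(0, 0), (0, 0), (0, 0), (0, 0), (0, 0), (0, 0), (0, 0), (0, 0), (1, 0), (0, 0), (0, 0), (0, 0), (0, 0), (0, 0), (0, 0), (1, 1), (0, 0), (0, 1), (0, 0), (0, 1), (0, 2), (-1, 2), (-2, 2), (-4, 0), (-1, 2), (-4, 3), (-3, 0), (-5, 0)],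
  [(0, 0), (0, 0), (0, 0), (0, 0), (0, 0), (0, 0), (0, 0), (0, 0), (0, 0), (1, 0), (0, 0), (0, 0), (0, 0), (0, 0), (0, 0), (1, 1), (0, 0), (0, 1), (0, 0), (0, 1), (1, 2), (0, 2), (-1, 2), (-3, 3), (-2, 2), (-3, 4), (-3, 2), (-4, 1)],
  [(0, 0), (0, 0), (0, 0), (0, 0), (0, 0), (0, 0), (0, 0), (0, 0), (0, 0), (0, 0), (1, 0), (0, 0), (0, 0), (0, 0), (0, 0), (0, 0), (0, 0), (0, 0), (0, 0), (0, 0), (0, 0), (1, 1), (1, 1), (0, 2), (1, 2), (0, 3), (0, 3), (-1, 2)],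
  [(0, 0), (0, 0), (0, 0), (0, 0), (0, 0), (0, 0), (0, 0), (0, 0), (0, 0), (0, 0), (0, 0), (1, 0), (0, 0), (0, 0), (0, 0), (0, 0), (0, 0), (0, 0), (0, 0), (0, 0), (1, 1), (0, 2), (1, 1), (-2, 2), (0, 2), (-2, 4), (-3, 3), (-1, 3)],
  [(0, 0), (0, 0), (0, 0), (0, 0), (0, 0), (0, 0), (0, 0), (0, 0), (0, 0), (0, 0), (0, 0), (0, 0), (-1, 0), (0, 0), (0, 0), (0, 0), (0, 0), (-1, -1), (0, 0), (0, -2), (0, 0), (0, 0), (0, 0), (0, 0), (0, -1), (1, -1), (0, -1), (1, -1)],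
  [(0, 0), (0, 0), (0, 0), (0, 0), (0, 0), (0, 0), (0, 0), (0, 0), (0, 0), (0, 0), (0, 0), (0, 0), (0, 0), (-1, 0), (0, 0), (0, 0), (0, 0), (-1, -1), (0, 0), (0, -2), (0, 0), (0, 0), (0, 0), (0, 0), (0, -1), (1, -1), (0, -1), (1, -1)],
  [(0, 0), (0, 0), (0, 0), (0, 0), (0, 0), (0, 0), (0, 0), (0, 0), (0, 0), (0, 0), (0, 0), (0, 0), (0, 0), (0, 0), (-1, 0), (0, 0), (0, 0), (0, 0), (0, 0), (0, 0), (0, 0), (0, 0), (0, 0), (0, 0), (0, 0), (0, 0), (0, 0), (0, 0)],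
  [(0, 0), (0, 0), (0, 0), (0, 0), (0, 0), (0, 0), (0, 0), (0, 0), (0, 0), (0, 0), (0, 0), (0, 0), (0, 0), (0, 0), (0, 0), (-1, 0), (0, 0), (-1, -1), (0, 0), (-1, -1), (0, 0), (0, 0), (0, 0), (0, 0), (0, -1), (1, -1), (0, -1), (1, -1)],
  [(0, 0), (0, 0), (0, 0), (0, 0), (0, 0), (0, 0), (0, 0), (0, 0), (0, 0), (0, 0), (0, 0), (0, 0), (0, 0), (0, 0), (0, 0), (0, 0), (1, 0), (0, 0), (0, 0), (0, 0), (0, 0), (0, 0), (1, 1), (1, 1), (1, 1), (1, 2), (0, 2), (-1, 2)],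
  [(0, 0), (0, 0), (0, 0), (0, 0), (0, 0), (0, 0), (0, 0), (0, 0), (0, 0), (0, 0), (0, 0), (0, 0), (0, 0), (0, 0), (0, 0), (0, 0), (0, 0), (1, 0), (0, 0), (0, 0), (0, 0), (0, 0), (0, 0), (0, 0), (1, 1), (0, 2), (1, 1), (0, 2)],
  [(0, 0), (0, 0), (0, 0), (0, 0), (0, 0), (0, 0), (0, 0), (0, 0), (0, 0), (0, 0), (0, 0), (0, 0), (0, 0), (0, 0), (0, 0), (0, 0), (0, 0), (0, 0), (1, 0), (0, 0), (1, 1), (0, 2), (0, 2), (-2, 2), (-1, 2), (-3, 3), (-3, 1), (-2, 1)],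
  [(0, 0), (0, 0), (0, 0), (0, 0), (0, 0), (0, 0), (0, 0), (0, 0), (0, 0), (0, 0), (0, 0), (0, 0), (0, 0), (0, 0), (0, 0), (0, 0), (0, 0), (0, 0), (0, 0), (1, 0), (0, 0), (0, 0), (0, 0), (0, 0), (0, 0), (0, 0), (0, 0), (0, 0)],
  [(0, 0), (0, 0), (0, 0), (0, 0), (0, 0), (0, 0), (0, 0), (0, 0), (0, 0), (0, 0), (0, 0), (0, 0), (0, 0), (0, 0), (0, 0), (0, 0), (0, 0), (0, 0), (0, 0), (0, 0), (-1, 0), (0, 0), (0, 0), (0, 0), (0, 0), (0, 0), (0, 0), (0, 0)],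
  [(0, 0), (0, 0), (0, 0), (0, 0), (0, 0), (0, 0), (0, 0), (0, 0), (0, 0), (0, 0), (0, 0), (0, 0), (0, 0), (0, 0), (0, 0), (0, 0), (0, 0), (0, 0), (0, 0), (0, 0), (0, 0), (-1, 0), (0, 0), (0, 0), (0, 0), (0, 0), (0, 0), (0, 0)],
  [(0, 0), (0, 0), (0, 0), (0, 0), (0, 0), (0, 0), (0, 0), (0, 0), (0, 0), (0, 0), (0, 0), (0, 0), (0, 0), (0, 0), (0, 0), (0, 0), (0, 0), (0, 0), (0, 0), (0, 0), (0, 0), (0, 0), (-1, 0), (0, 0), (0, 0), (0, 0), (0, 0), (0, 0)],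
  [(0, 0), (0, 0), (0, 0), (0, 0), (0, 0), (0, 0), (0, 0), (0, 0), (0, 0), (0, 0), (0, 0), (0, 0), (0, 0), (0, 0), (0, 0), (0, 0), (0, 0), (0, 0), (0, 0), (0, 0), (0, 0), (0, 0), (0, 0), (-1, 0), (0, 0), (0, 0), (0, 0), (0, 0)],
  [(0, 0), (0, 0), (0, 0), (0, 0), (0, 0), (0, 0), (0, 0), (0, 0), (0, 0), (0, 0), (0, 0), (0, 0), (0, 0), (0, 0), (0, 0), (0, 0), (0, 0), (0, 0), (0, 0), (0, 0), (0, 0), (0, 0), (0, 0), (0, 0), (-1, 0), (0, 0), (0, 0), (0, 0)],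
  [(0, 0), (0, 0), (0, 0), (0, 0), (0, 0), (0, 0), (0, 0), (0, 0), (0, 0), (0, 0), (0, 0), (0, 0), (0, 0), (0, 0), (0, 0), (0, 0), (0, 0), (0, 0), (0, 0), (0, 0), (0, 0), (0, 0), (0, 0), (0, 0), (0, 0), (-1, 0), (0, 0), (0, 0)],
  [(0, 0), (0, 0), (0, 0), (0, 0), (0, 0), (0, 0), (0, 0), (0, 0), (0, 0), (0, 0), (0, 0), (0, 0), (0, 0), (0, 0), (0, 0), (0, 0), (0, 0), (0, 0), (0, 0), (0, 0), (0, 0), (0, 0), (0, 0), (0, 0), (0, 0), (0, 0), (-1, 0), (0, 0)],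
  [(0, 0), (0, 0), (0, 0), (0, 0), (0, 0), (0, 0), (0, 0), (0, 0), (0, 0), (0, 0), (0, 0), (0, 0), (0, 0), (0, 0), (0, 0), (0, 0), (0, 0), (0, 0), (0, 0), (0, 0), (0, 0), (0, 0), (0, 0), (0, 0), (0, 0), (0, 0), (0, 0), (-1, 0)]]

/-- Coefficients of the images of the basis under `ruShift`. -/
def ahT : List (List (ℤ × ℤ)) := [
  [(0, 0), (0, -1), (0, 0), (0, -1), (0, 0), (1, -1), (1, -1), (2, -1), (0, 0), (0, -1), (3, 0), (3, 2), (2, -1), (2, 1), (3, 0), (4, 3), (4, -1), (7, 8), (5, 0), (7, 12), (10, 12), (-1, 21), (3, 23), (-21, 24), (-4, 29), (-31, 50), (-26, 27), (-30, 27)],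
  [(0, 0), (0, -1), (0, -1), (1, -1), (0, 0), (1, -1), (1, -1), (4, 0), (0, -1), (1, -1), (5, 1), (3, 5), (3, -1), (3, 2), (4, 0), (6, 7), (6, 1), (8, 15), (6, 3), (6, 23), (8, 21), (-10, 28), (-6, 34), (-39, 25), (-18, 40), (-63, 57), (-46, 28), (-58, 26)],
  [(0, 0), (0, 0), (0, -1), (0, -1), (0, 0), (0, -1), (0, -1), (2, -2), (0, -1), (1, -1), (4, -1), (4, 2), (1, -2), (2, -1), (2, -2), (8, 1), (5, -2), (13, 4), (6, 0), (17, 10), (15, 10), (7, 23), (12, 25), (-13, 35), (9, 34), (-11, 67), (-15, 40), (-24, 46)],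
  [(0, 0), (0, -1), (0, -1), (0, -1), (0, 0), (1, -1), (1, -2), (3, -1), (0, 0), (1, -1), (4, 0), (4, 3), (3, -2), (4, 1), (4, 0), (7, 7), (6, 0), (10, 13), (6, 2), (10, 22), (12, 20), (-6, 29), (-2, 33), (-34, 30), (-11, 41), (-52, 67), (-40, 33), (-50, 33)],
  [(1, 0), (0, -1), (0, -1), (1, -1), (0, 0), (2, 0), (1, -1), (3, 1), (0, 0), (0, -1), (3, 2), (2, 3), (3, 0), (2, 3), (4, 1), (2, 8), (5, 3), (2, 15), (3, 4), (-2, 21), (0, 19), (-18, 19), (-15, 24), (-38, 7), (-25, 27), (-68, 28), (-43, 9), (-52, 4)],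
  [(0, 0), (1, 1), (0, 0), (-1, 1), (0, 0), (-1, 1), (-2, 1), (-4, -1), (0, -1), (0, 0), (-3, -2), (-1, -3), (-3, 0), (-2, -3), (-4, -1), (-1, -9), (-6, -3), (-1, -16), (-3, -5), (3, -22), (2, -19), (19, -18), (17, -22), (38, -4), (28, -25), (71, -23), (44, -7), (54, 2)],
  [(0, 0), (0, 0), (1, 1), (-1, 1), (0, 0), (-1, 0), (-1, 1), (-3, 0), (0, -1), (0, 0), (-2, -2), (-1, -2), (-2, 0), (-1, -2), (-3, -1), (-2, -6), (-4, -1), (-1, -10), (-3, -3), (0, -14), (1, -15), (14, -15), (12, -18), (30, -3), (20, -19), (52, -19), (32, -5), (40, -1)],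
  [(0, 0), (0, 0), (0, 0), (1, -1), (0, 0), (1, 0), (0, 0), (2, 0), (0, 0), (0, 0), (2, 2), (0, 2), (0, 0), (0, 0), (1, -1), (1, 1), (2, 1), (2, 4), (2, 2), (2, 6), (1, 5), (-4, 8), (-4, 10), (-13, 5), (-7, 11), (-21, 13), (-14, 6), (-18, 5)],
  [(0, 0), (0, 0), (0, 0), (0, 0), (1, 0), (0, 0), (0, 0), (0, 1), (0, 0), (0, 0), (0, 1), (-1, 0), (0, 0), (1, 0), (0, 0), (0, 2), (-1, 0), (-2, 2), (0, 0), (-3, 2), (-1, 0), (-3, 0), (-3, 0), (-3, -3), (-4, 0), (-5, -5), (-4, -3), (-4, -6)],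
  [(0, 0), (0, 0), (0, 0), (0, 0), (0, 0), (1, 0), (0, 0), (1, 0), (0, 0), (0, 0), (1, 1), (0, 1), (0, 0), (0, 1), (0, 0), (0, 1), (0, 1), (-1, 3), (0, 1), (-2, 3), (-1, 3), (-5, 3), (-5, 3), (-9, -1), (-7, 2), (-15, -1), (-9, -3), (-9, -4)],
  [(0, 0), (0, 0), (0, 0), (0, 0), (0, 0), (0, 0), (1, -1), (1, -1), (0, 0), (0, 0), (1, 0), (1, 1), (1, 0), (1, 0), (1, 1), (1, 2), (2, 0), (2, 3), (2, 0), (3, 5), (2, 5), (-2, 7), (-1, 9), (-9, 7), (-4, 11), (-16, 16), (-12, 8), (-14, 7)],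
  [(0, 0), (0, 0), (0, 0), (0, 0), (0, 0), (0, 0), (0, 0), (1, 1), (0, 0), (0, 0), (0, 1), (-1, 1), (0, 0), (0, 0), (0, 0), (-1, 1), (-1, 1), (-2, 1), (-2, 0), (-4, 2), (-3, -1), (-3, -4), (-4, -3), (-1, -7), (-4, -4), (-3, -12), (0, -7), (-1, -9)],
  [(0, 0), (0, 0), (0, 0), (0, 0), (0, 0), (0, 0), (0, 0), (0, 0), (1, 1), (-1, 1), (-1, 0), (-1, -2), (0, 0), (0, -1), (0, 0), (-1, 0), (-2, 0), (-2, -1), (-2, 0), (-1, -2), (-2, -3), (1, -4), (-2, -6), (3, -6), (1, -7), (7, -10), (7, -6), (8, -9)],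
  [(0, 0), (0, 0), (0, 0), (0, 0), (0, 0), (0, 0), (0, 0), (0, 0), (0, 0), (1, -1), (0, 0), (0, 0), (0, 0), (0, -1), (0, 0), (1, -1), (0, 0), (1, -1), (1, -1), (2, -1), (4, -1), (4, 2), (4, 3), (2, 8), (3, 4), (6, 9), (0, 7), (1, 7)],
  [(0, 0), (0, 0), (0, 0), (0, 0), (0, 0), (0, 0), (0, 0), (0, 0), (0, 0), (0, 0), (1, 0), (0, 0), (0, 0), (0, 0), (0, 0), (0, 0), (-1, 0), (0, 0), (0, -1), (0, 0), (1, -1), (2, 0), (1, 0), (1, 2), (1, 1), (2, 2), (1, 2), (1, 1)],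
  [(0, 0), (0, 0), (0, 0), (0, 0), (0, 0), (0, 0), (0, 0), (0, 0), (0, 0), (0, 0), (0, 0), (1, 0), (0, 0), (0, -1), (0, 0), (0, 0), (-1, 0), (0, -1), (0, -1), (1, 0), (1, -1), (2, 1), (2, 0), (1, 2), (2, 1), (3, 3), (0, 3), (2, 2)],
  [(0, 0), (0, 0), (0, 0), (0, 0), (0, 0), (0, 0), (0, 0), (0, 0), (0, 0), (0, 0), (0, 0), (0, 0), (1, 0), (0, 0), (0, 0), (0, 1), (0, 0), (0, 1), (0, -1), (-1, 1), (0, 0), (0, 0), (0, 0), (0, 0), (0, 1), (-1, 1), (0, 1), (-1, 0)],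
  [(0, 0), (0, 0), (0, 0), (0, 0), (0, 0), (0, 0), (0, 0), (0, 0), (0, 0), (0, 0), (0, 0), (0, 0), (0, 0), (1, 1), (0, 0), (-1, 1), (0, 0), (-1, 1), (0, 0), (-2, 1), (-1, 0), (-2, -1), (-2, 0), (-1, -3), (-3, 0), (-4, -3), (-2, -3), (-2, -4)],
  [(0, 0), (0, 0), (0, 0), (0, 0), (0, 0), (0, 0), (0, 0), (0, 0), (0, 0), (0, 0), (0, 0), (0, 0), (0, 0), (0, 0), (1, 0), (0, 1), (-1, 0), (-1, 0), (0, -1), (-1, 0), (1, 0), (1, 1), (0, 1), (-1, 2), (-1, 1), (-1, 2), (-2, 1), (-1, -1)],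
  [(0, 0), (0, 0), (0, 0), (0, 0), (0, 0), (0, 0), (0, 0), (0, 0), (0, 0), (0, 0), (0, 0), (0, 0), (0, 0), (0, 0), (0, 0), (1, -1), (0, 0), (1, 0), (0, 0), (1, 0), (1, 0), (1, 1), (1, 1), (0, 2), (1, 1), (1, 3), (0, 2), (0, 3)],
  [(0, 0), (0, 0), (0, 0), (0, 0), (0, 0), (0, 0), (0, 0), (0, 0), (0, 0), (0, 0), (0, 0), (0, 0), (0, 0), (0, 0), (0, 0), (0, 0), (1, -1), (0, -1), (1, -1), (1, -2), (1, 0), (0, 1), (2, 1), (0, 1), (2, 1), (2, 3), (0, 2), (1, 3)],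
  [(0, 0), (0, 0), (0, 0), (0, 0), (0, 0), (0, 0), (0, 0), (0, 0), (0, 0), (0, 0), (0, 0), (0, 0), (0, 0), (0, 0), (0, 0), (0, 0), (0, 0), (1, 0), (0, 0), (0, 0), (0, 0), (-1, 0), (-1, 0), (-1, -1), (0, 0), (-1, 0), (0, -1), (0, 0)],
  [(0, 0), (0, 0), (0, 0), (0, 0), (0, 0), (0, 0), (0, 0), (0, 0), (0, 0), (0, 0), (0, 0), (0, 0), (0, 0), (0, 0), (0, 0), (0, 0), (0, 0), (0, 0), (1, 1), (0, 0), (0, 0), (-1, 1), (-1, 0), (-1, -1), (-1, 0), (-2, -1), (-1, -1), (0, -1)],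
  [(0, 0), (0, 0), (0, 0), (0, 0), (0, 0), (0, 0), (0, 0), (0, 0), (0, 0), (0, 0), (0, 0), (0, 0), (0, 0), (0, 0), (0, 0), (0, 0), (0, 0), (0, 0), (0, 0), (1, 0), (0, 0), (0, 0), (0, 0), (0, 0), (0, 0), (0, 0), (0, 0), (0, 0)],
  [(0, 0), (0, 0), (0, 0), (0, 0), (0, 0), (0, 0), (0, 0), (0, 0), (0, 0), (0, 0), (0, 0), (0, 0), (0, 0), (0, 0), (0, 0), (0, 0), (0, 0), (0, 0), (0, 0), (0, 0), (1, 1), (-1, 1), (-1, 1), (-3, 0), (-1, 0), (-2, 1), (-2, -1), (-1, 0)],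
  [(0, 0), (0, 0), (0, 0), (0, 0), (0, 0), (0, 0), (0, 0), (0, 0), (0, 0), (0, 0), (0, 0), (0, 0), (0, 0), (0, 0), (0, 0), (0, 0), (0, 0), (0, 0), (0, 0), (0, 0), (0, 0), (1, -1), (0, 0), (1, 0), (0, 0), (1, 0), (1, 0), (0, 0)],
  [(0, 0), (0, 0), (0, 0), (0, 0), (0, 0), (0, 0), (0, 0), (0, 0), (0, 0), (0, 0), (0, 0), (0, 0), (0, 0), (0, 0), (0, 0), (0, 0), (0, 0), (0, 0), (0, 0), (0, 0), (0, 0), (0, 0), (1, -1), (1, 0), (1, 0), (1, 0), (1, 1), (1, 1)],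
  [(0, 0), (0, 0), (0, 0), (0, 0), (0, 0), (0, 0), (0, 0), (0, 0), (0, 0), (0, 0), (0, 0), (0, 0), (0, 0), (0, 0), (0, 0), (0, 0), (0, 0), (0, 0), (0, 0), (0, 0), (0, 0), (0, 0), (0, 0), (1, 0), (0, 0), (0, 0), (0, 0), (0, 0)]]

/-- Check vectors of level 0 (to be scaled by `2 + 2i`). -/
def z0T : List (List (ℤ × ℤ)) := [
  [(1, 0), (0, 0), (0, 0), (0, 0), (0, 0), (0, 0), (0, 0), (1, 0), (0, 0), (0, 0), (0, 0), (1, 0), (0, 0), (0, 0), (0, 0), (1, 0), (0, 0), (0, 0), (0, 0), (1, 0), (0, 0), (0, 0), (0, 0), (1, 0), (0, 0), (1, 0), (0, 0), (0, 0)],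
  [(0, 0), (1, 0), (0, 0), (0, 0), (0, 0), (0, 0), (0, 0), (1, 0), (0, 0), (0, 0), (0, 0), (1, 0), (0, 0), (0, 0), (0, 0), (1, 0), (0, 0), (0, 0), (0, 0), (1, 0), (0, 0), (0, 0), (1, 0), (0, 0), (0, 0), (0, 0), (1, 0), (0, 0)],
  [(0, 0), (0, 0), (1, 0), (0, 0), (0, 0), (0, 0), (0, 0), (1, 0), (0, 0), (0, 0), (0, 0), (1, 0), (0, 0), (0, 0), (0, 0), (1, 0), (0, 0), (0, 0), (0, 0), (1, 0), (0, 0), (0, 0), (1, 0), (0, 0), (0, 0), (1, 0), (1, 0), (1, 0)],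
  [(0, 0), (0, 0), (0, 0), (1, 0), (0, 0), (0, 0), (0, 0), (1, 0), (0, 0), (0, 0), (0, 0), (1, 0), (0, 0), (0, 0), (0, 0), (1, 0), (0, 0), (0, 0), (0, 0), (1, 0), (0, 0), (0, 0), (0, 0), (1, 0), (0, 0), (0, 0), (0, 0), (1, 0)],
  [(0, 0), (0, 0), (0, 0), (0, 0), (1, 0), (0, 0), (0, 0), (1, 0), (0, 0), (0, 0), (0, 0), (0, 0), (0, 0), (0, 0), (0, 0), (0, 0), (0, 0), (0, 0), (0, 0), (0, 0), (0, 0), (0, 0), (1, 0), (1, 0), (0, 0), (0, 0), (1, 0), (1, 0)],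
  [(0, 0), (0, 0), (0, 0), (0, 0), (0, 0), (1, 0), (0, 0), (1, 0), (0, 0), (0, 0), (0, 0), (0, 0), (0, 0), (0, 0), (0, 0), (0, 0), (0, 0), (0, 0), (0, 0), (0, 0), (0, 0), (0, 0), (1, 0), (1, 0), (0, 0), (1, 0), (0, 0), (1, 0)],
  [(0, 0), (0, 0), (0, 0), (0, 0), (0, 0), (0, 0), (1, 0), (1, 0), (0, 0), (0, 0), (0, 0), (0, 0), (0, 0), (0, 0), (0, 0), (0, 0), (0, 0), (0, 0), (0, 0), (0, 0), (0, 0), (0, 0), (0, 0), (0, 0), (0, 0), (1, 0), (1, 0), (0, 0)],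
  [(0, 0), (0, 0), (0, 0), (0, 0), (0, 0), (0, 0), (0, 0), (0, 0), (1, 0), (0, 0), (0, 0), (1, 0), (0, 0), (0, 0), (0, 0), (0, 0), (0, 0), (0, 0), (0, 0), (0, 0), (0, 0), (0, 0), (1, 0), (1, 0), (0, 0), (1, 0), (0, 0), (1, 0)],
  [(0, 0), (0, 0), (0, 0), (0, 0), (0, 0), (0, 0), (0, 0), (0, 0), (0, 0), (1, 0), (0, 0), (1, 0), (0, 0), (0, 0), (0, 0), (0, 0), (0, 0), (0, 0), (0, 0), (0, 0), (0, 0), (0, 0), (1, 0), (1, 0), (0, 0), (0, 0), (0, 0), (0, 0)],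
  [(0, 0), (0, 0), (0, 0), (0, 0), (0, 0), (0, 0), (0, 0), (0, 0), (0, 0), (0, 0), (1, 0), (1, 0), (0, 0), (0, 0), (0, 0), (0, 0), (0, 0), (0, 0), (0, 0), (0, 0), (0, 0), (0, 0), (0, 0), (0, 0), (0, 0), (1, 0), (0, 0), (1, 0)],
  [(0, 0), (0, 0), (0, 0), (0, 0), (0, 0), (0, 0), (0, 0), (0, 0), (0, 0), (0, 0), (0, 0), (0, 0), (1, 0), (0, 0), (0, 0), (1, 0), (0, 0), (0, 0), (0, 0), (0, 0), (0, 0), (0, 0), (1, 0), (1, 0), (0, 0), (0, 0), (0, 0), (0, 0)],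
  [(0, 0), (0, 0), (0, 0), (0, 0), (0, 0), (0, 0), (0, 0), (0, 0), (0, 0), (0, 0), (0, 0), (0, 0), (0, 0), (1, 0), (0, 0), (1, 0), (0, 0), (0, 0), (0, 0), (0, 0), (0, 0), (0, 0), (0, 0), (0, 0), (0, 0), (0, 0), (1, 0), (1, 0)],
  [(0, 0), (0, 0), (0, 0), (0, 0), (0, 0), (0, 0), (0, 0), (0, 0), (0, 0), (0, 0), (0, 0), (0, 0), (0, 0), (0, 0), (1, 0), (1, 0), (0, 0), (0, 0), (0, 0), (0, 0), (0, 0), (0, 0), (1, 0), (1, 0), (0, 0), (0, 0), (1, 0), (1, 0)],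
  [(0, 0), (0, 0), (0, 0), (0, 0), (0, 0), (0, 0), (0, 0), (0, 0), (0, 0), (0, 0), (0, 0), (0, 0), (0, 0), (0, 0), (0, 0), (0, 0), (1, 0), (0, 0), (0, 0), (1, 0), (0, 0), (0, 0), (0, 0), (0, 0), (0, 0), (0, 0), (1, 0), (1, 0)],
  [(0, 0), (0, 0), (0, 0), (0, 0), (0, 0), (0, 0), (0, 0), (0, 0), (0, 0), (0, 0), (0, 0), (0, 0), (0, 0), (0, 0), (0, 0), (0, 0), (0, 0), (1, 0), (0, 0), (1, 0), (0, 0), (0, 0), (1, 0), (1, 0), (0, 0), (1, 0), (1, 0), (0, 0)],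
  [(0, 0), (0, 0), (0, 0), (0, 0), (0, 0), (0, 0), (0, 0), (0, 0), (0, 0), (0, 0), (0, 0), (0, 0), (0, 0), (0, 0), (0, 0), (0, 0), (0, 0), (0, 0), (1, 0), (1, 0), (0, 0), (0, 0), (1, 0), (1, 0), (0, 0), (1, 0), (0, 0), (1, 0)],
  [(0, 0), (0, 0), (0, 0), (0, 0), (0, 0), (0, 0), (0, 0), (0, 0), (0, 0), (0, 0), (0, 0), (0, 0), (0, 0), (0, 0), (0, 0), (0, 0), (0, 0), (0, 0), (0, 0), (0, 0), (1, 0), (0, 0), (1, 0), (0, 0), (0, 0), (1, 0), (1, 0), (0, 0)],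
  [(0, 0), (0, 0), (0, 0), (0, 0), (0, 0), (0, 0), (0, 0), (0, 0), (0, 0), (0, 0), (0, 0), (0, 0), (0, 0), (0, 0), (0, 0), (0, 0), (0, 0), (0, 0), (0, 0), (0, 0), (0, 0), (1, 0), (0, 0), (1, 0), (0, 0), (1, 0), (1, 0), (0, 0)],
  [(0, 0), (0, 0), (0, 0), (0, 0), (0, 0), (0, 0), (0, 0), (0, 0), (0, 0), (0, 0), (0, 0), (0, 0), (0, 0), (0, 0), (0, 0), (0, 0), (0, 0), (0, 0), (0, 0), (0, 0), (0, 0), (0, 0), (0, 0), (0, 0), (1, 0), (1, 0), (1, 0), (1, 0)]]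

/-- Check vectors of level 1 (to be scaled by `2`). -/
def z1T : List (List (ℤ × ℤ)) := [
  [(1, 0), (0, 0), (0, 0), (0, 1), (0, 0), (0, 0), (0, 0), (0, 0), (1, 1), (0, 0), (0, 0), (0, 0), (0, 0), (0, 0), (0, 0), (0, 0), (0, 0), (0, 0), (0, 0), (0, 0), (0, 0), (0, 0), (0, 0), (0, 0), (0, 0), (0, 1), (1, 1), (0, 1)],
  [(0, 0), (0, 1), (0, 0), (0, 1), (1, 1), (0, 0), (0, 0), (0, 0), (1, 1), (0, 0), (0, 0), (0, 0), (0, 0), (0, 0), (0, 0), (0, 0), (0, 0), (0, 0), (0, 0), (1, 1), (0, 0), (0, 0), (0, 1), (0, 1), (0, 0), (0, 0), (1, 0), (0, 1)],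
  [(1, 1), (0, 0), (1, 0), (0, 1), (1, 1), (0, 0), (0, 0), (0, 0), (0, 0), (0, 0), (0, 0), (0, 0), (0, 0), (0, 0), (0, 0), (0, 0), (0, 0), (0, 0), (0, 0), (1, 1), (0, 0), (0, 0), (0, 1), (0, 1), (0, 0), (1, 0), (1, 0), (0, 0)],
  [(0, 0), (0, 0), (0, 0), (0, 0), (1, 0), (0, 0), (0, 0), (0, 1), (0, 0), (0, 0), (0, 0), (0, 0), (0, 0), (0, 0), (0, 0), (0, 0), (0, 0), (0, 0), (0, 0), (0, 0), (0, 0), (0, 0), (0, 1), (1, 0), (0, 0), (0, 0), (1, 0), (1, 0)],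
  [(1, 1), (1, 1), (0, 0), (0, 0), (1, 1), (1, 0), (0, 0), (0, 1), (0, 0), (0, 0), (0, 0), (0, 0), (0, 0), (0, 0), (0, 0), (0, 0), (0, 0), (0, 0), (0, 0), (0, 0), (0, 0), (0, 0), (0, 1), (0, 1), (0, 0), (1, 0), (0, 0), (0, 1)],
  [(1, 1), (1, 1), (0, 0), (0, 0), (1, 1), (0, 0), (1, 0), (0, 1), (0, 0), (0, 0), (0, 0), (0, 0), (0, 0), (0, 0), (0, 0), (0, 0), (0, 0), (0, 0), (0, 0), (0, 0), (0, 0), (0, 0), (0, 0), (1, 1), (0, 0), (1, 0), (0, 1), (0, 0)],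
  [(0, 0), (0, 0), (0, 0), (0, 0), (1, 1), (0, 0), (0, 0), (0, 0), (1, 0), (0, 0), (0, 0), (0, 1), (0, 0), (0, 0), (0, 0), (0, 0), (0, 0), (0, 0), (0, 0), (1, 1), (0, 0), (0, 0), (0, 1), (0, 1), (0, 0), (0, 1), (1, 1), (0, 1)],
  [(0, 0), (1, 1), (0, 0), (0, 0), (1, 1), (0, 0), (0, 0), (0, 0), (0, 0), (1, 0), (0, 0), (0, 1), (0, 0), (0, 0), (0, 0), (0, 0), (0, 0), (0, 0), (0, 0), (1, 1), (0, 0), (0, 0), (0, 1), (0, 1), (0, 0), (1, 1), (0, 0), (0, 0)],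
  [(1, 1), (0, 0), (0, 0), (0, 0), (0, 0), (0, 0), (0, 0), (0, 0), (0, 0), (0, 0), (1, 0), (0, 1), (0, 0), (0, 0), (0, 0), (0, 0), (0, 0), (0, 0), (0, 0), (0, 0), (0, 0), (0, 0), (0, 0), (0, 0), (0, 0), (1, 0), (1, 1), (0, 1)],
  [(0, 0), (1, 1), (0, 0), (0, 0), (1, 1), (0, 0), (0, 0), (0, 0), (0, 0), (0, 0), (0, 0), (0, 0), (1, 0), (0, 0), (0, 0), (0, 1), (0, 0), (0, 0), (0, 0), (1, 1), (0, 0), (0, 0), (0, 1), (1, 0), (0, 0), (1, 1), (1, 1), (1, 1)],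
  [(0, 0), (1, 1), (0, 0), (0, 0), (1, 1), (0, 0), (0, 0), (0, 0), (1, 1), (0, 0), (0, 0), (0, 0), (0, 0), (1, 0), (0, 0), (0, 1), (0, 0), (0, 0), (0, 0), (0, 0), (0, 0), (0, 0), (0, 0), (1, 1), (0, 0), (1, 1), (1, 0), (0, 1)],
  [(0, 0), (0, 0), (0, 0), (0, 0), (0, 0), (0, 0), (0, 0), (0, 0), (1, 1), (0, 0), (0, 0), (0, 0), (0, 0), (0, 0), (1, 0), (0, 1), (0, 0), (0, 0), (0, 0), (1, 1), (0, 0), (0, 0), (0, 1), (0, 1), (0, 0), (1, 1), (1, 0), (1, 0)],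
  [(1, 1), (0, 0), (0, 0), (0, 0), (1, 1), (0, 0), (0, 0), (0, 0), (1, 1), (0, 0), (0, 0), (0, 0), (0, 0), (0, 0), (0, 0), (0, 0), (1, 0), (0, 0), (0, 0), (0, 1), (0, 0), (0, 0), (0, 0), (1, 1), (0, 0), (1, 1), (1, 0), (1, 0)],
  [(0, 0), (1, 1), (0, 0), (0, 0), (1, 1), (0, 0), (0, 0), (0, 0), (0, 0), (0, 0), (0, 0), (0, 0), (0, 0), (0, 0), (0, 0), (0, 0), (0, 0), (0, 1), (0, 0), (1, 0), (0, 0), (0, 0), (0, 1), (1, 0), (0, 0), (1, 0), (0, 1), (1, 1)],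
  [(1, 1), (1, 1), (0, 0), (0, 0), (0, 0), (0, 0), (0, 0), (0, 0), (1, 1), (0, 0), (0, 0), (0, 0), (0, 0), (0, 0), (0, 0), (0, 0), (0, 0), (0, 0), (0, 1), (1, 0), (0, 0), (0, 0), (0, 1), (0, 1), (0, 0), (1, 0), (0, 0), (0, 1)],
  [(0, 0), (0, 0), (0, 0), (0, 0), (1, 1), (0, 0), (0, 0), (0, 0), (0, 0), (0, 0), (0, 0), (0, 0), (0, 0), (0, 0), (0, 0), (0, 0), (0, 0), (0, 0), (0, 0), (0, 0), (1, 0), (0, 0), (0, 1), (1, 1), (0, 0), (1, 0), (1, 0), (0, 0)],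
  [(0, 0), (0, 0), (0, 0), (0, 0), (1, 1), (0, 0), (0, 0), (0, 0), (0, 0), (0, 0), (0, 0), (0, 0), (0, 0), (0, 0), (0, 0), (0, 0), (0, 0), (0, 0), (0, 0), (0, 0), (0, 0), (0, 1), (0, 0), (1, 0), (0, 0), (0, 1), (1, 0), (1, 1)],
  [(1, 1), (1, 1), (0, 0), (0, 0), (0, 0), (0, 0), (0, 0), (0, 0), (0, 0), (0, 0), (0, 0), (0, 0), (0, 0), (0, 0), (0, 0), (0, 0), (0, 0), (0, 0), (0, 0), (0, 0), (0, 0), (0, 0), (0, 0), (0, 0), (0, 1), (0, 1), (1, 0), (0, 1)]]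

/-- Lattice vectors excluding the words of weight 8 at level 0. -/
def h0T : List (List (ℤ × ℤ)) := [
  [(2, 0), (0, 0), (0, 0), (0, 0), (0, 0), (0, 0), (0, 0), (0, 0), (0, 0), (0, 0), (-1, -1), (-1, -1), (0, 0), (0, 0), (0, 0), (0, 0), (0, -1), (0, 1), (0, -1), (1, 0), (-1, 0), (0, -1), (0, 1), (0, 1), (0, 0), (-1, 1), (2, 0), (1, -1)],
  [(2, 0), (0, 0), (0, 0), (0, 0), (0, 0), (-1, -1), (0, 0), (-1, -1), (0, 0), (0, 0), (0, 0), (0, 0), (0, -1), (0, -1), (-1, 0), (0, 1), (0, 0), (0, 2), (-1, -1), (-1, -1), (-1, 0), (0, 1), (1, 0), (1, 2), (0, 2), (0, 2), (0, 0), (2, 0)],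
  [(2, 0), (0, 0), (0, 0), (0, 0), (0, 0), (0, 0), (0, 0), (0, 0), (0, 0), (0, 0), (-1, -1), (-1, -1), (0, 0), (0, 0), (0, 0), (0, 0), (0, -1), (0, 1), (0, -1), (1, 0), (-1, 0), (0, -1), (0, 1), (0, 1), (0, 0), (-1, 1), (2, 0), (1, -1)],
  [(2, 0), (0, 0), (0, 0), (0, 0), (0, 0), (-1, -1), (0, 0), (1, -1), (0, 0), (-1, -1), (-1, -1), (0, 0), (0, -1), (0, 1), (-1, 0), (0, -1), (0, 0), (0, 0), (0, 0), (0, 0), (-1, -1), (1, -1), (-1, -1), (-1, 1), (0, 1), (0, 1), (0, 1), (1, 2)],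
  [(2, 0), (0, 0), (0, 0), (0, 0), (0, 0), (0, 0), (-1, -1), (-1, -1), (0, -1), (-1, 0), (0, -1), (0, 1), (-1, 0), (-1, 0), (-1, 0), (0, -1), (-1, -1), (-1, -1), (-1, -1), (1, 1), (0, 0), (0, 0), (0, 0), (0, 0), (1, -1), (0, 2), (0, 0), (1, 1)],
  [(2, 0), (0, 0), (0, 0), (0, 0), (0, 0), (0, 0), (-1, -1), (1, -1), (0, 0), (0, 0), (0, 0), (0, 2), (0, -1), (0, -1), (0, -1), (-1, 2), (0, -1), (-1, 0), (-1, 0), (1, 2), (0, 0), (-1, 1), (2, 2), (1, -1), (0, 0), (0, 0), (0, 0), (0, 0)],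
  [(0, 0), (-1, -1), (0, 0), (1, -1), (2, 0), (0, 0), (0, 0), (0, 0), (0, 0), (0, 0), (0, 0), (0, 0), (0, 0), (0, 0), (-1, -1), (-1, -1), (0, 0), (0, 2), (0, 0), (0, 2), (-1, 0), (1, 0), (1, 0), (2, -1), (0, -1), (1, 0), (-1, 2), (-1, 2)],
  [(0, 0), (0, 0), (0, 0), (0, 0), (2, 0), (0, 0), (0, 0), (0, 0), (0, 0), (-1, -1), (-1, -1), (0, 0), (0, 0), (0, 0), (0, 0), (0, 0), (0, 0), (0, 2), (-1, -1), (1, 1), (0, -1), (1, 0), (0, -1), (0, 1), (0, -1), (2, -1), (2, 1), (1, 0)],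
  [(0, 0), (0, 0), (-1, -1), (-1, -1), (2, 0), (0, 0), (0, 0), (0, 0), (0, 0), (0, 0), (0, 0), (0, 2), (0, -1), (-1, 0), (-1, 0), (-1, 0), (0, 0), (0, 0), (0, 0), (0, 0), (0, 0), (-1, -1), (-1, -1), (0, 2), (0, -1), (2, 1), (1, 2), (2, -1)],
  [(0, 0), (0, 0), (-1, -1), (1, -1), (2, 0), (0, 0), (0, 0), (0, 0), (0, -1), (0, -1), (0, -1), (-1, 2), (0, -1), (-1, 0), (-1, 0), (-1, 0), (-1, -1), (0, 0), (1, -1), (2, 2), (0, 0), (0, 0), (0, 0), (0, 0), (-1, -1), (1, -1), (1, -1), (1, 1)],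
  [(0, 0), (-1, -1), (0, 0), (1, -1), (2, 0), (0, 0), (0, 0), (0, 0), (0, -1), (0, -1), (-1, 0), (0, -1), (0, 0), (0, 0), (-1, -1), (1, 1), (-1, 0), (0, -1), (-1, 0), (-1, 2), (-1, -1), (-1, 1), (-1, 1), (1, -1), (0, 0), (0, 0), (0, 0), (0, 0)],
  [(0, 0), (-1, -1), (0, 0), (1, -1), (0, 0), (-1, -1), (-1, -1), (0, 0), (2, 0), (0, 0), (0, 0), (0, 0), (0, 0), (0, 0), (0, 0), (0, 0), (0, -1), (-1, 0), (0, -1), (0, 1), (0, 0), (0, 2), (0, 0), (0, 0), (0, 1), (1, 0), (-1, 0), (-1, 0)],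
  [(0, 0), (0, 0), (-1, -1), (-1, -1), (0, 0), (0, 0), (0, 0), (0, 2), (2, 0), (0, 0), (0, 0), (0, 0), (0, -1), (1, 0), (-1, 0), (1, 0), (0, 0), (0, 0), (0, 0), (0, 0), (0, 0), (1, -1), (-1, -1), (2, 2), (0, 1), (2, -1), (-1, 0), (2, -1)],
  [(0, 0), (0, 0), (-1, -1), (1, -1), (0, -1), (-1, 0), (0, -1), (0, 1), (2, 0), (0, 0), (0, 0), (0, 0), (-1, -1), (-1, -1), (-1, -1), (-1, -1), (0, 0), (1, -1), (0, 2), (1, 1), (0, 0), (0, 0), (0, 0), (0, 0), (0, -1), (0, 1), (-1, 2), (2, -1)],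
  [(0, 0), (0, 0), (0, 0), (0, 0), (0, 0), (-1, -1), (0, 0), (1, -1), (2, 0), (0, 0), (0, 0), (0, 0), (0, -1), (0, -1), (-1, 0), (2, 1), (0, 0), (0, 2), (-1, -1), (-1, 1), (0, 1), (-1, 0), (2, 1), (0, 1), (0, 0), (0, 0), (0, 0), (0, 0)],
  [(0, 0), (0, 0), (-1, -1), (-1, -1), (0, -1), (-1, 0), (0, -1), (0, 1), (0, -1), (0, -1), (0, 1), (-1, 0), (2, 0), (0, 0), (0, 0), (0, 0), (0, 0), (0, 0), (0, 0), (0, 0), (0, 0), (1, -1), (1, -1), (2, 0), (1, -1), (-1, 1), (1, 1), (1, 1)],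
  [(0, 0), (0, 0), (-1, -1), (1, -1), (0, -1), (-1, 0), (0, -1), (0, 1), (0, 0), (0, 0), (0, 0), (0, 2), (2, 0), (0, 0), (0, 0), (0, 0), (0, 0), (1, -1), (0, 0), (-1, 1), (0, 0), (0, 0), (0, 0), (0, 0), (1, 0), (-1, 0), (0, 1), (-1, 0)],
  [(0, 0), (-1, -1), (0, 0), (-1, -1), (0, 0), (-1, -1), (-1, -1), (0, 2), (0, -1), (0, 1), (-1, 0), (0, 1), (2, 0), (0, 0), (0, 0), (0, 0), (0, 0), (0, 0), (0, 2), (0, 2), (0, -1), (2, 1), (0, 1), (-1, 2), (0, 0), (0, 0), (0, 0), (0, 0)],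
  [(0, 0), (0, 0), (0, 0), (0, 0), (0, 0), (-1, -1), (0, 0), (-1, -1), (0, 0), (-1, -1), (-1, -1), (2, 0), (0, -1), (0, -1), (1, 0), (0, 1), (2, 0), (0, 0), (0, 0), (0, 0), (0, 0), (0, 0), (0, 0), (0, 0), (0, -1), (2, 1), (2, -1), (1, 0)],
  [(0, 0), (0, 0), (-1, -1), (1, -1), (0, -1), (-1, 0), (0, -1), (0, -1), (0, -1), (0, -1), (0, -1), (-1, 0), (-1, -1), (-1, -1), (1, -1), (-1, -1), (2, 0), (0, 0), (0, 0), (0, 0), (-1, -1), (2, 2), (2, 0), (-1, -1), (0, 0), (0, 0), (0, 0), (0, 0)],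
  [(0, 0), (0, 0), (-1, -1), (-1, -1), (0, 0), (0, 0), (0, 0), (0, 0), (0, -1), (0, 1), (0, -1), (1, 0), (-1, 0), (0, -1), (0, 1), (0, 1), (0, 0), (-1, 1), (2, 0), (1, -1), (2, 0), (0, 0), (0, 0), (0, 0), (0, 0), (0, 0), (0, 0), (0, 0)]]

/-- Lattice vectors excluding the words of weight 4 at level 1. -/
def h1T : List (List (ℤ × ℤ)) := [
  [(1, 1), (0, 0), (0, 0), (0, 0), (0, 0), (0, -1), (0, -1), (-1, -1), (0, 0), (0, 0), (0, -1), (1, 0), (0, -1), (-1, 0), (-1, -1), (1, -1), (0, -1), (0, 0), (-1, 0), (-1, 1), (0, 0), (0, -1), (0, 1), (2, 0), (0, 2), (2, -1), (-1, -1), (-1, 2)],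
  [(0, 0), (0, -1), (0, 0), (0, -1), (1, 1), (0, 0), (0, 0), (0, 0), (0, 0), (0, -1), (-1, 0), (0, 2), (0, -1), (-1, 0), (-1, -1), (0, 2), (0, 0), (-1, -1), (-1, 0), (0, 1), (-1, -1), (-1, 0), (0, 0), (1, 0), (-1, 0), (2, 2), (0, 0), (2, 1)],
  [(0, 0), (0, -1), (0, -1), (0, 0), (0, 0), (0, -1), (0, 0), (0, -1), (1, 1), (0, 0), (0, 0), (0, 0), (0, -1), (0, 0), (0, 0), (0, 1), (0, -1), (-1, 0), (-1, -1), (0, 2), (-1, 0), (1, 0), (0, 0), (1, -1), (0, -1), (0, 0), (-1, 0), (1, 1)],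
  [(0, 0), (0, -1), (0, 0), (-1, 0), (0, 0), (0, -1), (-1, 0), (-1, -1), (0, 0), (0, -1), (-1, -1), (1, 0), (1, 1), (0, 0), (0, 0), (0, 0), (0, -1), (1, -1), (-1, -1), (0, 1), (0, 0), (0, 0), (0, -1), (-1, 0), (-1, 0), (-1, 2), (-1, 1), (0, 2)],
  [(0, 0), (0, 0), (0, -1), (0, -1), (0, 0), (-1, 0), (0, 0), (0, 1), (0, 0), (-1, 0), (0, -1), (1, -1), (0, -1), (-1, -1), (-1, 0), (-1, 1), (1, 1), (0, 0), (0, 0), (0, 0), (-1, 0), (0, 0), (1, -1), (0, 1), (1, -1), (2, 0), (1, 0), (1, 2)],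
  [(0, 0), (0, 0), (0, -1), (-1, 0), (0, 0), (0, 0), (0, -1), (0, 1), (0, -1), (-1, -1), (-1, 0), (0, 0), (-1, -1), (0, -1), (0, -1), (1, -1), (0, 0), (0, -1), (-1, -1), (-1, 0), (1, 1), (0, 0), (0, 0), (0, 0), (-1, 0), (0, 2), (-1, 1), (2, 1)],
  [(0, 0), (0, -1), (0, -1), (-1, -1), (0, 0), (0, 0), (0, -1), (1, 0), (0, -1), (-1, 0), (-1, -1), (1, -1), (0, -1), (0, 0), (-1, 0), (-1, 1), (0, 0), (0, -1), (0, 1), (2, 0), (0, 2), (2, -1), (-1, -1), (-1, 2), (1, 1), (0, 0), (0, 0), (0, 0)]]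

/-- Lattice vectors whose residues separate the coordinates. -/
def lsepT : List (List (ℤ × ℤ)) := [
  [(0, -1), (1, 0), (1, 0), (1, 0), (0, 0), (0, 0), (0, 0), (0, 0), (0, 0), (0, 0), (0, 0), (0, 0), (1, 0), (1, 0), (0, 1), (-1, 0), (0, 0), (0, 0), (0, 0), (0, 0), (1, 0), (0, 1), (-1, 0), (1, 0), (1, 0), (-1, 0), (1, 0), (0, 1)],
  [(0, 0), (0, 0), (1, 0), (1, 0), (0, -1), (0, 0), (0, 1), (0, 0), (0, 0), (0, 1), (0, -1), (0, 0), (1, 0), (0, 0), (0, -1), (0, 0), (1, 0), (-1, 0), (-1, 0), (1, 0), (1, 0), (0, 0), (0, 0), (1, 0), (0, 0), (0, 0), (1, 0), (0, -1)],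
  [(-1, 0), (0, -1), (0, 0), (0, 0), (0, 0), (-1, 0), (0, 0), (0, -1), (0, 1), (0, 0), (0, 0), (1, 0), (0, 0), (-1, 0), (0, 0), (1, 0), (1, 0), (-1, 0), (-1, 0), (1, 0), (0, 0), (-1, 0), (0, -1), (0, 0), (-1, 0), (1, 0), (0, 0), (0, 0)],
  [(0, 0), (0, 0), (0, 0), (0, 0), (1, 0), (0, 1), (1, 0), (-1, 0), (1, 0), (1, 0), (1, 0), (0, -1), (0, -1), (-1, 0), (-1, 0), (1, 0), (0, 0), (0, 0), (0, 0), (0, 0), (0, 0), (0, 0), (0, 0), (0, 0), (1, 0), (-1, 0), (0, -1), (-1, 0)],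
  [(1, 0), (0, 1), (1, 0), (-1, 0), (1, 0), (1, 0), (1, 0), (0, -1), (0, -1), (-1, 0), (-1, 0), (1, 0), (0, 0), (0, 0), (0, 0), (0, 0), (0, 0), (0, 0), (0, 0), (0, 0), (1, 0), (-1, 0), (0, -1), (-1, 0), (0, 0), (0, 0), (0, 0), (0, 0)],
  [(1, 0), (1, 0), (1, 0), (1, 0), (1, 0), (0, 0), (0, 0), (-1, 0), (1, 0), (-1, 0), (0, 0), (0, 0), (0, 0), (0, 0), (-1, 0), (1, 0), (1, 0), (0, 0), (-1, 0), (0, 0), (0, 0), (-1, 0), (1, 0), (0, 0), (0, 0), (1, 0), (0, 0), (-1, 0)],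
  [(1, 0), (1, 0), (1, 0), (1, 0), (0, 0), (-1, 0), (0, 1), (0, 0), (0, 0), (0, 0), (-1, 0), (0, 1), (-1, 0), (0, 1), (0, 0), (0, 0), (0, 0), (0, 1), (0, 0), (-1, 0), (-1, 0), (0, 0), (0, 0), (0, 1), (-1, 0), (0, 0), (0, 1), (0, 0)],
  [(0, 0), (0, 0), (0, 0), (0, 0), (0, 0), (0, 0), (0, 0), (0, 0), (1, 0), (-1, 0), (0, -1), (-1, 0), (0, 0), (0, 0), (0, 0), (0, 0), (1, 0), (0, 1), (1, 0), (-1, 0), (1, 0), (1, 0), (1, 0), (0, -1), (0, -1), (-1, 0), (-1, 0), (1, 0)],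
  [(0, -1), (0, 0), (0, 1), (0, 0), (0, 0), (0, 1), (0, -1), (0, 0), (1, 0), (0, 0), (0, -1), (0, 0), (1, 0), (-1, 0), (-1, 0), (1, 0), (1, 0), (0, 0), (0, 0), (1, 0), (0, 0), (0, 0), (1, 0), (0, -1), (0, 0), (0, 0), (1, 0), (1, 0)],
  [(0, 0), (-1, 0), (0, 0), (0, -1), (0, 1), (0, 0), (0, 0), (1, 0), (0, 0), (-1, 0), (0, 0), (1, 0), (1, 0), (-1, 0), (-1, 0), (1, 0), (0, 0), (-1, 0), (0, -1), (0, 0), (-1, 0), (1, 0), (0, 0), (0, 0), (-1, 0), (0, -1), (0, 0), (0, 0)],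
  [(0, 1), (-1, 0), (0, 0), (0, 0), (-1, 0), (0, 0), (1, 0), (0, 0), (1, 0), (0, 0), (0, 0), (0, 1), (1, 0), (0, 0), (0, 1), (0, 0), (0, -1), (-1, 0), (0, 1), (-1, 0), (0, 0), (-1, 0), (0, 1), (0, 0), (0, 1), (0, 1), (0, 0), (0, 0)]]

/-- Generator masks of the level-0 code. -/
def g0M : List ℕ := [255, 3855, 61455, 983055, 5657398, 10900281, 53871973, 87253078, 151348540]

/-- Generator masks of the level-1 code. -/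
def g1M : List ℕ := [15, 240, 3840, 61440, 983040, 5657398, 10900278, 53871973, 87253078, 151348531]

/-- Pivot positions of the level-0 checks. -/
def piv0 : List ℕ := [0, 1, 2, 3, 4, 5, 6, 8, 9, 10, 12, 13, 14, 16, 17, 18, 20, 21, 24]

/-- Free positions at level 0. -/
def info0 : List ℕ := [7, 11, 15, 19, 22, 23, 25, 26, 27]

/-- Pivot positions of the level-1 checks. -/
def piv1 : List ℕ := [0, 1, 2, 4, 5, 6, 8, 9, 10, 12, 13, 14, 16, 17, 18, 20, 21, 24]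

/-- Free positions at level 1. -/
def info1 : List ℕ := [3, 7, 11, 15, 19, 22, 23, 25, 26, 27]

/-- The pairs of blocks. -/
def pairs0 : List (ℕ × ℕ) := [(0, 1), (0, 2), (0, 3), (0, 4), (0, 5), (0, 6), (1, 2), (1, 3), (1, 4), (1, 5), (1, 6), (2, 3), (2, 4), (2, 5), (2, 6), (3, 4), (3, 5), (3, 6), (4, 5), (4, 6), (5, 6)]

/-- The basis vectors. -/
def beta (k : Fin 28) : RuVec := rowT betaT k.val

/-- The generating vectors. -/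
def tab (i : Fin 20) : RuVec := ruTable.getD i.val 0

def z0 (k : Fin 19) : RuVec := rowT z0T k.val
def z1 (k : Fin 18) : RuVec := rowT z1T k.val
def h0 (i : Fin 21) : RuVec := rowT h0T i.val
def h1 (i : Fin 7) : RuVec := rowT h1T i.val
def lsep (i : Fin 11) : RuVec := rowT lsepT i.val

def X0 (k : Fin 19) (p : RuIdx) : ZMod 2 := if ix p = piv0.getD k.val 0 then 1 else 0
def Y0 (q : RuIdx) (j : ℕ) : ZMod 2 := if ix q = info0.getD j 0 then 1 else 0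
def X1 (k : Fin 18) (p : RuIdx) : ZMod 2 := if ix p = piv1.getD k.val 0 then 1 else 0
def Y1 (q : RuIdx) (j : ℕ) : ZMod 2 := if ix q = info1.getD j 0 then 1 else 0

/-- Membership in the `i`-th pair of blocks. -/
def S0 (i : Fin 21) (p : RuIdx) : Bool :=
  p.1.val == (pairs0.getD i.val (0, 0)).1 || p.1.val == (pairs0.getD i.val (0, 0)).2

/-- The distinguished coordinate of the `i`-th pair of blocks. -/
def q0 (i : Fin 21) : RuIdx := (Fin.ofNat 7 (pairs0.getD i.val (0, 0)).1, 0)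

/-- Membership in the `i`-th block. -/
def S1 (i : Fin 7) (p : RuIdx) : Bool := decide (p.1 = i)

end Cfsg.Agent.Lib.Helper93.RuLat
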