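import Mathlib
import Cfsg.Prelude.Def_Spor_Ru
import Cfsg.Agent.Lib.Helper93.RuDefs

set_option autoImplicit false

namespace Cfsg.Agent.Lib.Helper93.RuLat

open Cfsg Cfsg.Spor

set_option maxRecDepth 100000

theorem tab_eq : ∀ i : Fin 20, ∀ p : RuIdx,
    tab i p = (∑ k : Fin 28, cfOf cfTT i.val k.val • beta k) p := by
  decide +kernel

theorem rj_eq : ∀ k : Fin 28, ∀ p : RuIdx,
    ruRj (beta k) p = (∑ l : Fin 28, cfOf ajT k.val l.val • beta l) p := by
  decide +kernel

theorem rk_eq : ∀ k : Fin 28, ∀ p : RuIdx,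
    ruRk (beta k) p = (∑ l : Fin 28, cfOf akT k.val l.val • beta l) p := by
  decide +kernel

theorem sg_eq : ∀ k : Fin 28, ∀ p : RuIdx,
    ruSign (beta k) p = (∑ l : Fin 28, cfOf asT k.val l.val • beta l) p := by
  decide +kernel

theorem sh_eq : ∀ k : Fin 28, ∀ p : RuIdx,
    ruShift (beta k) p = (∑ l : Fin 28, cfOf ahT k.val l.val • beta l) p := by
  decide +kernel

theorem tab0_norm : ruNorm (tab 0) = 16 := by
  decide +kernel

theorem table_length : ruTable.length = 20 := by
  decide +kernel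

end Cfsg.Agent.Lib.Helper93.RuLat
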