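import Mathlib
import Cfsg.Prelude.Def_Spor_Ru
import Cfsg.Agent.Lib.Helper93.RuDefs

set_option autoImplicit false

namespace Cfsg.Agent.Lib.Helper93.RuLat

open Cfsg Cfsg.Spor

set_option maxRecDepth 100000

theorem gram_beta : ∀ j k : Fin 28, D4 (herm (beta j) (beta k)) := by
  decide +kernel

theorem norm_beta : ∀ k : Fin 28, (8 : ℤ) ∣ ruNorm (beta k) := by
  decide +kernel

theorem dual_z0 : ∀ k : Fin 19, ∀ j : Fin 28,
    D4 (herm (beta j) ((⟨2, 2⟩ : GaussianInt) • z0 k)) := by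
  decide +kernel

theorem dual_z1 : ∀ k : Fin 18, ∀ j : Fin 28,
    D4 (herm (beta j) ((⟨2, 0⟩ : GaussianInt) • z1 k)) := by
  decide +kernel

theorem dual_h0 : ∀ i : Fin 21, ∀ j : Fin 28, D4 (herm (beta j) (h0 i)) := by
  decide +kernel

theorem dual_h1 : ∀ i : Fin 7, ∀ j : Fin 28, D4 (herm (beta j) (h1 i)) := by
  decide +kernel

theorem dual_lsep : ∀ i : Fin 11, ∀ j : Fin 28, D4 (herm (beta j) (lsep i)) := by
  decide +kernel

theorem ident0 : ∀ q p : RuIdx,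
    (∑ k : Fin 19, phi (z0 k q) * X0 k p)
      + (∑ j ∈ Finset.range 9, Y0 q j * bitZ (g0M.getD j 0) (ix p))
      = if q = p then 1 else 0 := by
  decide +kernel

theorem ident1 : ∀ q p : RuIdx,
    (∑ k : Fin 18, phi (z1 k q) * X1 k p)
      + (∑ j ∈ Finset.range 10, Y1 q j * bitZ (g1M.getD j 0) (ix p))
      = if q = p then 1 else 0 := by
  decide +kernel

theorem enumN0 : ∀ m ∈ sums g0M, wt (fun p => bitZ m (ix p)) ≤ 8 →
    (∀ p : RuIdx, bitZ m (ix p) = 0) ∨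
      ∃ i : Fin 21, ∀ p : RuIdx, bitZ m (ix p) = if S0 i p then 1 else 0 := by
  decide +kernel

theorem enumN1 : ∀ m ∈ sums g1M, wt (fun p => bitZ m (ix p)) ≤ 4 →
    (∀ p : RuIdx, bitZ m (ix p) = 0) ∨
      ∃ i : Fin 7, ∀ p : RuIdx, bitZ m (ix p) = if S1 i p then 1 else 0 := by
  decide +kernel

theorem spec0 : ∀ i : Fin 21, S0 i (q0 i) = true ∧
    (∀ p, S0 i p = true → p ≠ q0 i → h0 i p = 0) ∧
    ¬ (16 : ℤ) ∣ (1 : GaussianInt).norm * (h0 i (q0 i)).norm ∧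
    (Finset.univ.filter (fun p => S0 i p = true)).card = 8 := by
  decide +kernel

theorem spec1 : ∀ i : Fin 7, S1 i (i, 0) = true ∧
    (∀ p : RuIdx, S1 i p = true → p ≠ (i, 0) → h1 i p = 0) ∧
    ¬ (16 : ℤ) ∣ (⟨1, 1⟩ : GaussianInt).norm * (h1 i (i, 0)).norm ∧
    (Finset.univ.filter (fun p => S1 i p = true)).card = 4 := by
  decide +kernel

theorem sep_fact : ∀ p q : RuIdx, p ≠ q →
    ∃ i : Fin 11, phi (lsep i p) = 1 ∧ phi (lsep i q) = 0 := by
  decide +kernel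

theorem sep_fact1 : ∀ p : RuIdx, ∃ i : Fin 11, phi (lsep i p) = 1 := by
  decide +kernel

theorem g0M_length : g0M.length = 9 := by decide
theorem g1M_length : g1M.length = 10 := by decide

end Cfsg.Agent.Lib.Helper93.RuLat
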