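import Mathlib
import Cfsg.Prelude.Def_Spor_Ru
import Cfsg.Agent.Lib.Helper93.RuDefs
import Cfsg.Agent.Lib.Helper93.RuData1
import Cfsg.Agent.Lib.Helper93.RuData2

set_option autoImplicit false

namespace Cfsg.Agent.Lib.Helper93.RuLat

open Cfsg Cfsg.Spor

/-! ### Gaussian integers -/

theorem dvd4_iff (z : GaussianInt) : (4 : GaussianInt) ∣ z ↔ D4 z := by
  have h : (4 : GaussianInt) = ((4 : ℤ) : GaussianInt) := by norm_num
  rw [h, Zsqrtd.intCast_dvd]
  rfl

theorem norm_four : (4 : GaussianInt).norm = 16 := by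
  have h : (4 : GaussianInt) = ((4 : ℤ) : GaussianInt) := by norm_num
  rw [h, Zsqrtd.norm_intCast]
  norm_num

theorem norm_dvd_of_dvd4 {z : GaussianInt} (h : (4 : GaussianInt) ∣ z) : (16 : ℤ) ∣ z.norm := by
  obtain ⟨c, rfl⟩ := h
  rw [Zsqrtd.norm_mul, norm_four]
  exact Dvd.intro _ rfl

theorem gnorm_nonneg (z : GaussianInt) : 0 ≤ z.norm := GaussianInt.norm_nonneg z

theorem gnorm_eq (z : GaussianInt) : z.norm = z.re * z.re + z.im * z.im := by
  rw [Zsqrtd.norm_def]
  ring

theorem phi_cases (z : GaussianInt) : phi z = 0 ∨ phi z = 1 := by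
  unfold phi
  split_ifs
  · exact Or.inl rfl
  · exact Or.inr rfl

theorem phi_zero_iff_mod (z : GaussianInt) : phi z = 0 ↔ (z.re + z.im) % 2 = 0 := by
  unfold phi
  split_ifs with h
  · simp [h]
  · simp only [h, iff_false]
    decide

theorem sq_sub_even (x : ℤ) : (2 : ℤ) ∣ x * x - x := by
  have h := Int.even_mul_pred_self x
  rw [even_iff_two_dvd] at h
  have e : x * x - x = x * (x - 1) := by ring
  rw [e]
  exact h

theorem phi_zero_iff (z : GaussianInt) : phi z = 0 ↔ (2 : ℤ) ∣ z.norm := by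
  rw [phi_zero_iff_mod, gnorm_eq]
  have h1 := sq_sub_even z.re
  have h2 := sq_sub_even z.im
  constructor
  · intro h
    omega
  · intro h
    omega

theorem phi_eq (z : GaussianInt) : phi z = ((z.re + z.im : ℤ) : ZMod 2) := by
  rcases phi_cases z with h | h
  · rw [h]
    have := (phi_zero_iff_mod z).1 h
    exact ((ZMod.intCast_zmod_eq_zero_iff_dvd _ 2).2 (Int.dvd_of_emod_eq_zero this)).symm
  · rw [h]
    have hne : ¬ (z.re + z.im) % 2 = 0 := by
      intro h0
      have := (phi_zero_iff_mod z).2 h0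
      rw [h] at this
      exact absurd this (by decide)
    have h1 : (z.re + z.im) % 2 = 1 := by omega
    have e : ((z.re + z.im : ℤ) : ZMod 2) = (((z.re + z.im) % 2 : ℤ) : ZMod 2) := by
      have := ZMod.intCast_mod (z.re + z.im) 2
      exact_mod_cast this.symm
    rw [e, h1]
    simp

theorem two_zmod : (2 : ZMod 2) = 0 := rfl

/-- Reduction modulo `1 + i` as a ring homomorphism. -/
def phiHom : GaussianInt →+* ZMod 2 where
  toFun := phi
  map_one' := by
    rw [phi_eq]
    simp
  map_mul' := fun z w => by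
    simp only [phi_eq, Zsqrtd.re_mul, Zsqrtd.im_mul]
    push_cast
    linear_combination (-((z.im : ZMod 2) * (w.im : ZMod 2))) * two_zmod
  map_zero' := by
    rw [phi_eq]
    simp
  map_add' := fun z w => by
    simp only [phi_eq, Zsqrtd.re_add, Zsqrtd.im_add]
    push_cast
    ring

theorem phi_star (z : GaussianInt) : phi (star z) = phi z := by
  simp only [phi_eq, Zsqrtd.re_star, Zsqrtd.im_star]
  push_cast
  linear_combination (-(z.im : ZMod 2)) * two_zmod

theorem phi_zero_of_dvd {κ x : GaussianInt} (hκ : κ.norm ∣ 8)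
    (h : (4 : GaussianInt) ∣ κ * x) : phi x = 0 := by
  rw [phi_zero_iff]
  have h16 := norm_dvd_of_dvd4 h
  rw [Zsqrtd.norm_mul] at h16
  obtain ⟨t, ht⟩ := h16
  obtain ⟨m, hm⟩ := hκ
  refine ⟨m * t, ?_⟩
  have e : 8 * x.norm = 16 * (m * t) := by
    calc 8 * x.norm = m * (κ.norm * x.norm) := by rw [hm]; ring
      _ = 16 * (m * t) := by rw [ht]; ring
  omega

theorem one_le_norm_of_phi {z : GaussianInt} (h : phi z = 1) : 1 ≤ z.norm := by
  have h0 := gnorm_nonneg z
  have hne : z.norm ≠ 0 := by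
    intro hz
    have : phi z = 0 := (phi_zero_iff z).2 (by rw [hz]; exact dvd_zero _)
    rw [h] at this
    exact absurd this (by decide)
  omega

theorem exists_div_pi {z : GaussianInt} (h : phi z = 0) :
    ∃ y : GaussianInt, z = (⟨1, 1⟩ : GaussianInt) * y ∧ z.norm = 2 * y.norm := by
  have hm := (phi_zero_iff_mod z).1 h
  obtain ⟨s, hs⟩ : ∃ s, z.re + z.im = 2 * s := ⟨(z.re + z.im) / 2, by omega⟩
  have hre : z.re = 2 * s - z.im := by omega
  refine ⟨⟨s, z.im - s⟩, ?_, ?_⟩
  · ext
    · simp only [Zsqrtd.re_mul]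
      rw [hre]
      ring
    · simp only [Zsqrtd.im_mul]
      ring
  · rw [gnorm_eq, gnorm_eq, hre]
    ring

/-! ### The Hermitian product and the norm -/

theorem herm_add_left (x x' y : RuVec) : herm (x + x') y = herm x y + herm x' y := by
  simp only [herm, Pi.add_apply, add_mul, Finset.sum_add_distrib]

theorem herm_smul_left (a : GaussianInt) (x y : RuVec) : herm (a • x) y = a * herm x y := by
  simp only [herm, Pi.smul_apply, smul_eq_mul, mul_assoc, Finset.mul_sum]

theorem herm_zero_left (y : RuVec) : herm 0 y = 0 := by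
  simp [herm]

theorem herm_add_right (x y y' : RuVec) : herm x (y + y') = herm x y + herm x y' := by
  simp only [herm, Pi.add_apply, star_add, mul_add, Finset.sum_add_distrib]

theorem herm_smul_right (a : GaussianInt) (x y : RuVec) :
    herm x (a • y) = star a * herm x y := by
  simp only [herm, Pi.smul_apply, smul_eq_mul, Finset.mul_sum]
  refine Finset.sum_congr rfl (fun p _ => ?_)
  rw [star_mul]
  ring

theorem herm_zero_right (x : RuVec) : herm x 0 = 0 := by
  simp [herm]

theorem phi_herm (u z : RuVec) : phi (herm u z) = ∑ p, phi (u p) * phi (z p) := by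
  change phiHom (∑ p, u p * star (z p)) = _
  rw [map_sum]
  refine Finset.sum_congr rfl (fun p _ => ?_)
  rw [map_mul]
  change phi (u p) * phi (star (z p)) = _
  rw [phi_star]

/-- The real part as an additive map. -/
def reHom : GaussianInt →+ ℤ where
  toFun := Zsqrtd.re
  map_zero' := rfl
  map_add' := fun _ _ => rfl

theorem ruNorm_nonneg (x : RuVec) : 0 ≤ ruNorm x :=
  Finset.sum_nonneg (fun _ _ => gnorm_nonneg _)

theorem ruNorm_smul (a : GaussianInt) (x : RuVec) : ruNorm (a • x) = a.norm * ruNorm x := by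
  simp only [ruNorm, Pi.smul_apply, smul_eq_mul, Zsqrtd.norm_mul, Finset.mul_sum]

theorem ruNorm_add (x y : RuVec) :
    ruNorm (x + y) = ruNorm x + ruNorm y + 2 * (herm x y).re := by
  have hre : (herm x y).re = ∑ p, (x p * star (y p)).re := by
    change reHom (∑ p, x p * star (y p)) = _
    rw [map_sum]
    rfl
  rw [hre, Finset.mul_sum]
  simp only [ruNorm, ← Finset.sum_add_distrib]
  refine Finset.sum_congr rfl (fun p _ => ?_)
  simp only [Pi.add_apply, gnorm_eq, Zsqrtd.re_add, Zsqrtd.im_add, Zsqrtd.re_mul,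
    Zsqrtd.re_star, Zsqrtd.im_star]
  ring

theorem ruNorm_zero : ruNorm (0 : RuVec) = 0 := by
  simp [ruNorm]

theorem ruNorm_pos {x : RuVec} (hx : x ≠ 0) : 0 < ruNorm x := by
  obtain ⟨p, hp⟩ : ∃ p, x p ≠ 0 := by
    by_contra hcon
    exact hx (funext fun p => by_contra fun hp => hcon ⟨p, hp⟩)
  refine Finset.sum_pos' (fun q _ => gnorm_nonneg _) ⟨p, Finset.mem_univ p, ?_⟩
  have h0 := gnorm_nonneg (x p)
  have hne : (x p).norm ≠ 0 := fun h => hp ((Zsqrtd.norm_eq_zero_iff (by norm_num) _).1 h)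
  omega

/-! ### The span of the basis -/

/-- The Gaussian span of the basis. -/
def M : Submodule GaussianInt RuVec := Submodule.span GaussianInt (Set.range beta)

theorem beta_mem (k : Fin 28) : beta k ∈ M := Submodule.subset_span ⟨k, rfl⟩

theorem comb_mem (A : Fin 28 → GaussianInt) : (∑ l, A l • beta l) ∈ M :=
  Submodule.sum_mem _ (fun l _ => Submodule.smul_mem _ _ (beta_mem l))

theorem dvd_herm_of_mem {x : RuVec} (hx : x ∈ M) (h : RuVec)
    (hh : ∀ j, D4 (herm (beta j) h)) : (4 : GaussianInt) ∣ herm x h := by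
  unfold M at hx
  induction hx using Submodule.span_induction with
  | mem x hx =>
    obtain ⟨j, rfl⟩ := hx
    exact (dvd4_iff _).2 (hh j)
  | zero =>
    rw [herm_zero_left]
    exact dvd_zero _
  | add x y _ _ hx hy =>
    rw [herm_add_left]
    exact dvd_add hx hy
  | smul a x _ hx =>
    rw [herm_smul_left]
    exact Dvd.dvd.mul_left hx a

theorem dvd_herm_mem_mem {x y : RuVec} (hx : x ∈ M) (hy : y ∈ M) :
    (4 : GaussianInt) ∣ herm x y := by
  unfold M at hy
  induction hy using Submodule.span_induction with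
  | mem y hy =>
    obtain ⟨k, rfl⟩ := hy
    exact dvd_herm_of_mem hx _ (fun j => gram_beta j k)
  | zero =>
    rw [herm_zero_right]
    exact dvd_zero _
  | add y y' _ _ h1 h2 =>
    rw [herm_add_right]
    exact dvd_add h1 h2
  | smul a y _ h1 =>
    rw [herm_smul_right]
    exact Dvd.dvd.mul_left h1 _

theorem even_of_mem {x : RuVec} (hx : x ∈ M) : (8 : ℤ) ∣ ruNorm x := by
  have key : ∀ y ∈ Submodule.span GaussianInt (Set.range beta), (8 : ℤ) ∣ ruNorm y := by
    intro y hy
    induction hy using Submodule.span_induction with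
    | mem y hy =>
      obtain ⟨k, rfl⟩ := hy
      exact norm_beta k
    | zero =>
      rw [ruNorm_zero]
      exact dvd_zero _
    | add y y' hy hy' h1 h2 =>
      rw [ruNorm_add]
      have h4 : (4 : ℤ) ∣ (herm y y').re :=
        ((dvd4_iff _).1 (dvd_herm_mem_mem (x := y) (y := y') hy hy')).1
      omega
    | smul a y _ h1 =>
      rw [ruNorm_smul]
      exact Dvd.dvd.mul_left h1 _
  exact key x hx

/-! ### Closure of the span under the monomial maps -/

/-- `ruRj` as a linear map. -/
def rjL : RuVec →ₗ[GaussianInt] RuVec where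
  toFun := ruRj
  map_add' := fun x y => by
    funext ⟨n, t⟩
    match t with
    | 0 => exact mul_add gI (x (n, 1)) (y (n, 1))
    | 1 => exact mul_add gI (x (n, 0)) (y (n, 0))
    | 2 => rfl
    | 3 => exact neg_add (x (n, 2)) (y (n, 2))
  map_smul' := fun a x => by
    funext ⟨n, t⟩
    match t with
    | 0 => exact mul_left_comm gI a (x (n, 1))
    | 1 => exact mul_left_comm gI a (x (n, 0))
    | 2 => rfl
    | 3 => exact (mul_neg a (x (n, 2))).symm

/-- `ruRk` as a linear map. -/
def rkL : RuVec →ₗ[GaussianInt] RuVec where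
  toFun := ruRk
  map_add' := fun x y => by
    funext ⟨n, t⟩
    match t with
    | 0 => exact mul_add gI (x (n, 2)) (y (n, 2))
    | 1 => exact neg_add (x (n, 3)) (y (n, 3))
    | 2 => exact mul_add gI (x (n, 0)) (y (n, 0))
    | 3 => rfl
  map_smul' := fun a x => by
    funext ⟨n, t⟩
    match t with
    | 0 => exact mul_left_comm gI a (x (n, 2))
    | 1 => exact (mul_neg a (x (n, 3))).symm
    | 2 => exact mul_left_comm gI a (x (n, 0))
    | 3 => rfl

/-- `ruSign` as a linear map. -/
def sgL : RuVec →ₗ[GaussianInt] RuVec where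
  toFun := ruSign
  map_add' := fun x y => by
    funext p
    simp only [ruSign, Pi.add_apply]
    split_ifs
    · ring
    · rfl
  map_smul' := fun a x => by
    funext p
    simp only [ruSign, Pi.smul_apply, smul_eq_mul, RingHom.id_apply]
    split_ifs
    · ring
    · rfl

/-- `ruShift` as a linear map. -/
def shL : RuVec →ₗ[GaussianInt] RuVec where
  toFun := ruShift
  map_add' := fun _ _ => rfl
  map_smul' := fun _ _ => rfl

theorem map_mem (f : RuVec →ₗ[GaussianInt] RuVec) (A : Fin 28 → Fin 28 → GaussianInt)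
    (hf : ∀ k p, f (beta k) p = (∑ l, A k l • beta l) p) {v : RuVec} (hv : v ∈ M) :
    f v ∈ M := by
  have hle : Submodule.map f M ≤ M := by
    unfold M
    rw [Submodule.map_span_le]
    rintro _ ⟨k, rfl⟩
    have e : f (beta k) = ∑ l, A k l • beta l := funext (hf k)
    rw [e]
    exact comb_mem _
  exact hle (Submodule.mem_map_of_mem hv)

theorem table_mem : ∀ v ∈ ruTable, v ∈ M := by
  intro v hv
  obtain ⟨n, hn, rfl⟩ := List.mem_iff_getElem.1 hv
  have hlen := table_length
  have hn' : n < 20 := by omega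
  have h1 : tab ⟨n, hn'⟩ = ruTable[n] := List.getD_eq_getElem ruTable 0 hn
  have h2 : tab ⟨n, hn'⟩ ∈ M := by
    rw [show tab ⟨n, hn'⟩ = ∑ k, cfOf cfTT n k.val • beta k from funext (tab_eq ⟨n, hn'⟩)]
    exact comb_mem _
  rw [h1] at h2
  exact h2

theorem lattice_le {x : RuVec} (hx : x ∈ ruLattice) : x ∈ M := by
  have hcl : M.toAddSubgroup ∈ ruClosed := by
    refine ⟨table_mem, fun v hv => ⟨?_, ?_, ?_, ?_, ?_⟩⟩
    · exact M.smul_mem gI hv
    · exact map_mem rjL _ rj_eq hv
    · exact map_mem rkL _ rk_eq hv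
    · exact map_mem sgL _ sg_eq hv
    · exact map_mem shL _ sh_eq hv
  have h := (AddSubgroup.mem_sInf.1 hx) _ hcl
  exact h

/-! ### Binary words -/

theorem bitZ_xor (x y i : ℕ) : bitZ (x ^^^ y) i = bitZ x i + bitZ y i := by
  unfold bitZ
  rw [Nat.testBit_xor]
  cases x.testBit i <;> cases y.testBit i <;> decide

theorem bitZ_zero (i : ℕ) : bitZ 0 i = 0 := by
  simp [bitZ]

theorem exists_mask (gs : List ℕ) : ∀ a : ℕ → ZMod 2, ∃ m ∈ sums gs, ∀ i,
    ∑ j ∈ Finset.range gs.length, a j * bitZ (gs.getD j 0) i = bitZ m i := by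
  induction gs with
  | nil =>
    intro a
    exact ⟨0, by simp [sums], fun i => by simp [bitZ_zero]⟩
  | cons g rest ih =>
    intro a
    obtain ⟨m', hm', hme⟩ := ih (fun j => a (j + 1))
    have hsplit : ∀ i, ∑ j ∈ Finset.range (g :: rest).length, a j * bitZ ((g :: rest).getD j 0) i
        = bitZ m' i + a 0 * bitZ g i := by
      intro i
      rw [List.length_cons, Finset.sum_range_succ', ← hme i]
      simp
    have hcases : a 0 = 0 ∨ a 0 = 1 := by
      generalize a 0 = t
      revert t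
      decide
    rcases hcases with h0 | h1
    · refine ⟨m', List.mem_flatMap.2 ⟨m', hm', by simp⟩, fun i => ?_⟩
      rw [hsplit, h0, zero_mul, add_zero]
    · refine ⟨m' ^^^ g, List.mem_flatMap.2 ⟨m', hm', by simp⟩, fun i => ?_⟩
      rw [hsplit, h1, one_mul, bitZ_xor]

theorem decode_gen {κ : Type} [Fintype κ] (s : Finset ℕ) (c : RuIdx → ZMod 2)
    (Hm X : κ → RuIdx → ZMod 2) (Y : RuIdx → ℕ → ZMod 2) (G : ℕ → RuIdx → ZMod 2)
    (hid : ∀ q p, (∑ k, Hm k q * X k p) + (∑ j ∈ s, Y q j * G j p) = if q = p then 1 else 0)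
    (hc : ∀ k, ∑ q, c q * Hm k q = 0) (p : RuIdx) :
    c p = ∑ j ∈ s, (∑ q, c q * Y q j) * G j p := by
  have e1 : ∑ q, ∑ k, c q * (Hm k q * X k p) = 0 := by
    rw [Finset.sum_comm]
    refine Finset.sum_eq_zero (fun k _ => ?_)
    calc ∑ q, c q * (Hm k q * X k p) = (∑ q, c q * Hm k q) * X k p := by
          rw [Finset.sum_mul]
          exact Finset.sum_congr rfl (fun q _ => by ring)
      _ = 0 := by rw [hc k, zero_mul]
  have e2 : ∑ q, ∑ j ∈ s, c q * (Y q j * G j p) = ∑ j ∈ s, (∑ q, c q * Y q j) * G j p := by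
    rw [Finset.sum_comm]
    refine Finset.sum_congr rfl (fun j _ => ?_)
    rw [Finset.sum_mul]
    exact Finset.sum_congr rfl (fun q _ => by ring)
  calc c p = ∑ q, c q * (if q = p then 1 else 0) := by simp
    _ = ∑ q, c q * ((∑ k, Hm k q * X k p) + (∑ j ∈ s, Y q j * G j p)) := by
        refine Finset.sum_congr rfl (fun q _ => ?_)
        rw [hid]
    _ = (∑ q, ∑ k, c q * (Hm k q * X k p)) + ∑ q, ∑ j ∈ s, c q * (Y q j * G j p) := by
        simp only [mul_add, Finset.mul_sum, Finset.sum_add_distrib]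
    _ = _ := by rw [e1, e2, zero_add]

theorem wt_le (u : RuVec) : ((wt (fun p => phi (u p)) : ℕ) : ℤ) ≤ ruNorm u := by
  unfold wt ruNorm
  rw [Finset.card_eq_sum_ones, Nat.cast_sum]
  calc ∑ p ∈ Finset.univ.filter (fun p => phi (u p) = 1), ((1 : ℕ) : ℤ)
      ≤ ∑ p ∈ Finset.univ.filter (fun p => phi (u p) = 1), (u p).norm := by
        refine Finset.sum_le_sum (fun p hp => ?_)
        have := one_le_norm_of_phi (Finset.mem_filter.1 hp).2
        simpa using this
    _ ≤ ∑ p, (u p).norm :=
        Finset.sum_le_sum_of_subset_of_nonneg (Finset.filter_subset _ _)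
          (fun p _ _ => gnorm_nonneg _)

/-! ### The excluded words -/

theorem special_false (u : RuVec) (κ : GaussianInt) (S : RuIdx → Bool) (p0 : RuIdx) (h : RuVec)
    (hp0 : S p0 = true) (hh : ∀ p, S p = true → p ≠ p0 → h p = 0)
    (hn : ¬ (16 : ℤ) ∣ κ.norm * (h p0).norm)
    (hpar : ∀ p, phi (u p) = if S p then 1 else 0)
    (hQ : ruNorm u = ((Finset.univ.filter (fun p => S p = true)).card : ℤ))
    (hdvd : (4 : GaussianInt) ∣ herm (κ • u) h) : False := by
  have hge : ∀ p, (if S p then (1 : ℤ) else 0) ≤ (u p).norm := by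
    intro p
    by_cases hS : S p = true
    · rw [if_pos hS]
      have h1 : phi (u p) = 1 := by rw [hpar p, if_pos hS]
      exact one_le_norm_of_phi h1
    · rw [if_neg hS]
      exact gnorm_nonneg _
  have hcard : ∑ p, (if S p then (1 : ℤ) else 0)
      = ((Finset.univ.filter (fun p => S p = true)).card : ℤ) := by
    rw [Finset.card_filter]
    push_cast
    rfl
  have hsum : ∑ p, ((u p).norm - (if S p then (1 : ℤ) else 0)) = 0 := by
    rw [Finset.sum_sub_distrib, hcard]
    unfold ruNorm at hQ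
    omega
  have heq : ∀ p, (u p).norm = if S p then 1 else 0 := by
    intro p
    have := (Finset.sum_eq_zero_iff_of_nonneg (fun p _ => sub_nonneg.2 (hge p))).1 hsum p
      (Finset.mem_univ p)
    linarith
  have hzero : ∀ p, ¬ S p = true → u p = 0 := by
    intro p hS
    have := heq p
    rw [if_neg hS] at this
    exact (Zsqrtd.norm_eq_zero_iff (by norm_num) _).1 this
  have hsingle : herm u h = u p0 * star (h p0) := by
    unfold herm
    refine Finset.sum_eq_single p0 (fun p _ hp => ?_) (fun hp => absurd (Finset.mem_univ _) hp)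
    by_cases hS : S p = true
    · rw [hh p hS hp, star_zero, mul_zero]
    · rw [hzero p hS, zero_mul]
  rw [herm_smul_left, hsingle] at hdvd
  have h16 := norm_dvd_of_dvd4 hdvd
  rw [Zsqrtd.norm_mul, Zsqrtd.norm_mul, heq p0, if_pos hp0, one_mul, Zsqrtd.norm_conj] at h16
  exact hn h16

theorem exists_div_pi_vec {u : RuVec} (h : ∀ p, phi (u p) = 0) :
    ∃ u' : RuVec, u = (⟨1, 1⟩ : GaussianInt) • u' ∧ ruNorm u = 2 * ruNorm u' := by
  choose u' hu' hn' using fun p => exists_div_pi (h p)
  refine ⟨u', funext (fun p => hu' p), ?_⟩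
  unfold ruNorm
  rw [Finset.mul_sum]
  exact Finset.sum_congr rfl (fun p _ => hn' p)

theorem sep_lemma (u : RuVec) (hQ : ruNorm u ≤ 2)
    (hchk : ∀ i, phi (herm u (lsep i)) = 0) : ∀ p, phi (u p) = 0 := by
  by_contra hcon
  obtain ⟨p, hp⟩ := not_forall.1 hcon
  have hp1 : phi (u p) = 1 := (phi_cases _).resolve_left hp
  have hpO : p ∈ Finset.univ.filter (fun r => phi (u r) = 1) := by
    simp [hp1]
  have hcard : (Finset.univ.filter (fun r => phi (u r) = 1)).card ≤ 2 := by
    have h := wt_le u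
    have e : wt (fun p => phi (u p)) = (Finset.univ.filter (fun r => phi (u r) = 1)).card := rfl
    rw [e] at h
    omega
  have hsum : ∀ z : RuVec,
      phi (herm u z) = ∑ r ∈ Finset.univ.filter (fun r => phi (u r) = 1), phi (z r) := by
    intro z
    rw [phi_herm, Finset.sum_filter]
    refine Finset.sum_congr rfl (fun r _ => ?_)
    rcases phi_cases (u r) with h | h
    · simp [h]
    · simp [h]
  by_cases hq : ∃ q ∈ Finset.univ.filter (fun r => phi (u r) = 1), q ≠ p
  · obtain ⟨q, hqO, hqp⟩ := hq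
    have hOeq : ({p, q} : Finset RuIdx) = Finset.univ.filter (fun r => phi (u r) = 1) := by
      apply Finset.eq_of_subset_of_card_le
      · intro r hr
        rcases Finset.mem_insert.1 hr with rfl | hr
        · exact hpO
        · rw [Finset.mem_singleton.1 hr]
          exact hqO
      · rw [Finset.card_pair (Ne.symm hqp)]
        exact hcard
    obtain ⟨i, hi1, hi2⟩ := sep_fact p q (Ne.symm hqp)
    have := hchk i
    rw [hsum, ← hOeq, Finset.sum_pair (Ne.symm hqp), hi1, hi2] at this
    exact absurd this (by decide)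
  · have hq' : ∀ q ∈ Finset.univ.filter (fun r => phi (u r) = 1), q = p :=
      fun q hqO => by_contra fun hne => hq ⟨q, hqO, hne⟩
    have hOeq : Finset.univ.filter (fun r => phi (u r) = 1) = {p} :=
      Finset.eq_singleton_iff_unique_mem.2 ⟨hpO, hq'⟩
    obtain ⟨i, hi⟩ := sep_fact1 p
    have := hchk i
    rw [hsum, hOeq, Finset.sum_singleton, hi] at this
    exact absurd this (by decide)

/-! ### No vector of norm 8 -/

theorem norm_pi : (⟨1, 1⟩ : GaussianInt).norm = 2 := by decide

theorem no_root {v : RuVec} (hv : v ∈ M) (hQ : ruNorm v = 8) : False := by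
  -- level 0
  have hc0 : ∀ k : Fin 19, ∑ q, phi (v q) * phi (z0 k q) = 0 := by
    intro k
    rw [← phi_herm]
    have h := dvd_herm_of_mem hv _ (dual_z0 k)
    rw [herm_smul_right] at h
    exact phi_zero_of_dvd (κ := star (⟨2, 2⟩ : GaussianInt)) (by decide) h
  obtain ⟨m0, hm0, hme0⟩ := exists_mask g0M (fun j => ∑ q, phi (v q) * Y0 q j)
  have hw0 : ∀ p, phi (v p) = bitZ m0 (ix p) := by
    intro p
    rw [decode_gen (Finset.range 9) (fun p => phi (v p)) (fun k q => phi (z0 k q)) X0 Y0
      (fun j p => bitZ (g0M.getD j 0) (ix p)) ident0 hc0 p]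
    have := hme0 (ix p)
    rw [g0M_length] at this
    exact this
  have hwt0 : wt (fun p => bitZ m0 (ix p)) ≤ 8 := by
    have h1 := wt_le v
    have h2 : (fun p => phi (v p)) = fun p => bitZ m0 (ix p) := funext hw0
    rw [h2, hQ] at h1
    exact_mod_cast h1
  have hall0 : ∀ p, phi (v p) = 0 := by
    rcases enumN0 m0 hm0 hwt0 with h | ⟨i, hi⟩
    · intro p
      rw [hw0, h]
    · exfalso
      obtain ⟨s1, s2, s3, s4⟩ := spec0 i
      refine special_false v 1 (S0 i) (q0 i) (h0 i) s1 s2 s3 (fun p => ?_) ?_ ?_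
      · rw [hw0, hi]
      · rw [hQ, s4]
        norm_num
      · rw [one_smul]
        exact dvd_herm_of_mem hv _ (dual_h0 i)
  obtain ⟨u1, hu1, hn1⟩ := exists_div_pi_vec hall0
  have hQ1 : ruNorm u1 = 4 := by omega
  -- level 1
  have hc1 : ∀ k : Fin 18, ∑ q, phi (u1 q) * phi (z1 k q) = 0 := by
    intro k
    rw [← phi_herm]
    have h := dvd_herm_of_mem hv _ (dual_z1 k)
    rw [hu1, herm_smul_left, herm_smul_right, ← mul_assoc] at h
    exact phi_zero_of_dvd (κ := (⟨1, 1⟩ : GaussianInt) * star (⟨2, 0⟩ : GaussianInt))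
      (by decide) h
  obtain ⟨m1, hm1, hme1⟩ := exists_mask g1M (fun j => ∑ q, phi (u1 q) * Y1 q j)
  have hw1 : ∀ p, phi (u1 p) = bitZ m1 (ix p) := by
    intro p
    rw [decode_gen (Finset.range 10) (fun p => phi (u1 p)) (fun k q => phi (z1 k q)) X1 Y1
      (fun j p => bitZ (g1M.getD j 0) (ix p)) ident1 hc1 p]
    have := hme1 (ix p)
    rw [g1M_length] at this
    exact this
  have hwt1 : wt (fun p => bitZ m1 (ix p)) ≤ 4 := by
    have h1 := wt_le u1
    have h2 : (fun p => phi (u1 p)) = fun p => bitZ m1 (ix p) := funext hw1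
    rw [h2, hQ1] at h1
    exact_mod_cast h1
  have hall1 : ∀ p, phi (u1 p) = 0 := by
    rcases enumN1 m1 hm1 hwt1 with h | ⟨i, hi⟩
    · intro p
      rw [hw1, h]
    · exfalso
      obtain ⟨s1, s2, s3, s4⟩ := spec1 i
      refine special_false u1 ⟨1, 1⟩ (S1 i) (i, 0) (h1 i) s1 s2 s3 (fun p => ?_) ?_ ?_
      · rw [hw1, hi]
      · rw [hQ1, s4]
        norm_num
      · rw [← hu1]
        exact dvd_herm_of_mem hv _ (dual_h1 i)
  obtain ⟨u2, hu2, hn2⟩ := exists_div_pi_vec hall1
  have hQ2 : ruNorm u2 = 2 := by omega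
  -- level 2
  have hall2 : ∀ p, phi (u2 p) = 0 := by
    refine sep_lemma u2 (by omega) (fun i => ?_)
    have h := dvd_herm_of_mem hv _ (dual_lsep i)
    rw [hu1, hu2, herm_smul_left, herm_smul_left, ← mul_assoc] at h
    exact phi_zero_of_dvd (κ := (⟨1, 1⟩ : GaussianInt) * (⟨1, 1⟩ : GaussianInt)) (by decide) h
  obtain ⟨u3, hu3, hn3⟩ := exists_div_pi_vec hall2
  have hQ3 : ruNorm u3 = 1 := by omega
  -- level 3
  have hall3 : ∀ p, phi (u3 p) = 0 := by
    refine sep_lemma u3 (by omega) (fun i => ?_)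
    have h := dvd_herm_of_mem hv _ (dual_lsep i)
    rw [hu1, hu2, hu3, herm_smul_left, herm_smul_left, herm_smul_left, ← mul_assoc,
      ← mul_assoc] at h
    exact phi_zero_of_dvd
      (κ := (⟨1, 1⟩ : GaussianInt) * (⟨1, 1⟩ : GaussianInt) * (⟨1, 1⟩ : GaussianInt))
      (by decide) h
  obtain ⟨u4, hu4, hn4⟩ := exists_div_pi_vec hall3
  omega

/-! ### The statement -/

theorem main : (∀ x ∈ ruLattice, (8 : ℤ) ∣ ruNorm x) ∧ (∀ x ∈ ruLattice, ruNorm x ≠ 8) ∧
    (∀ x ∈ ruLattice, x ≠ 0 → 16 ≤ ruNorm x) ∧ ∃ x ∈ ruLattice, ruNorm x = 16 := by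
  refine ⟨fun x hx => even_of_mem (lattice_le hx), fun x hx h8 => no_root (lattice_le hx) h8,
    fun x hx hx0 => ?_, ?_⟩
  · have h1 := even_of_mem (lattice_le hx)
    have h2 : ruNorm x ≠ 8 := fun h8 => no_root (lattice_le hx) h8
    have h3 := ruNorm_pos hx0
    omega
  · refine ⟨tab 0, ?_, tab0_norm⟩
    have hmem : tab 0 ∈ ruTable := by
      have hlen := table_length
      have h0 : tab 0 = ruTable[0]'(by omega) := List.getD_eq_getElem ruTable 0 (by omega)
      rw [h0]
      exact List.getElem_mem _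
    unfold ruLattice
    rw [AddSubgroup.mem_sInf]
    intro L hL
    exact hL.1 _ hmem

end Cfsg.Agent.Lib.Helper93.RuLat
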