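import Mathlib
import Cfsg.Agent.S2872
import Cfsg.Agent.Lib.Helper56.Frat
import Cfsg.Agent.Lib.Helper56.PRes
import Cfsg.Agent.Lib.Helper94.LargeExtra
import Cfsg.Agent.Lib.Helper12.NormAbCyc2

set_option autoImplicit false
open Cfsg
open scoped commutatorElement

namespace Cfsg.Agent.Lib.Helper93.ZSmall

theorem mem_zpowers_two {L : Type*} [Group L] {z y : L} (hz : orderOf z = 2)
    (hy : y ∈ Subgroup.zpowers z) : y = 1 ∨ y = z := by
  obtain ⟨k, rfl⟩ := Subgroup.mem_zpowers_iff.mp hy
  have h := zpow_mod_orderOf z k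
  rw [hz] at h
  rcases Int.emod_two_eq_zero_or_one k with h0 | h1
  · left; rw [← h]; simp [h0]
  · right; rw [← h]; simp [h1]

/-- a finite simple nonabelian group is generated by its elements of odd order -/
theorem pres_top {L : Type*} [Group L] [Finite L] [IsSimpleGroup L] (hL : ¬ IsMulCommutative L) :
    Cfsg.pResidual 2 L = ⊤ := by
  rcases (Cfsg.Agent.Lib.Helper56.pResidual_normal 2 L).eq_bot_or_eq_top with h | h
  · exfalso
    -- every element of odd order is trivial, so `L` is a 2-group
    have hodd : ∀ x : L, Nat.Coprime (orderOf x) 2 → x = 1 := by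
      intro x hx
      have : x ∈ Cfsg.pResidual 2 L := Subgroup.subset_closure hx
      rw [h] at this
      exact Subgroup.mem_bot.mp this
    have hP : IsPGroup 2 L := by
      intro x
      obtain ⟨k, m, hm, hkm⟩ := Nat.exists_eq_two_pow_mul_odd (orderOf_pos x).ne'
      refine ⟨k, ?_⟩
      have h1 : orderOf (x ^ 2 ^ k) ∣ m := by
        apply orderOf_dvd_of_pow_eq_one
        rw [← pow_mul, ← hkm]; exact pow_orderOf_eq_one x
      have h2 : Nat.Coprime (orderOf (x ^ 2 ^ k)) 2 :=
        Nat.Coprime.coprime_dvd_left h1 (Nat.Coprime.symm (Nat.coprime_two_left.mpr hm))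
      exact hodd _ h2
    have hc := hP.bot_lt_center
    have hcn : (Subgroup.center L).Normal := inferInstance
    rcases hcn.eq_bot_or_eq_top with h0 | h0
    · exact hc.ne' h0
    · apply hL
      refine ⟨⟨fun a b => ?_⟩⟩
      have : a ∈ Subgroup.center L := by rw [h0]; exact Subgroup.mem_top a
      exact ((Subgroup.mem_center_iff.mp this) b).symm
  · exact h

/-- conjugation by an element of the normalizer as an automorphism -/
def conjEquiv {L : Type*} [Group L] (R : Subgroup L) (n : L)
    (hn : n ∈ Subgroup.normalizer (R : Set L)) : ↥R ≃* ↥R where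
  toFun x := ⟨n * x * n⁻¹, (Subgroup.mem_normalizer_iff.mp hn x).mp x.2⟩
  invFun x := ⟨n⁻¹ * x * n, by
    have := (Subgroup.mem_normalizer_iff.mp hn (n⁻¹ * x * n)).mpr (by simpa [mul_assoc] using x.2)
    exact this⟩
  left_inv x := by ext; simp [mul_assoc]
  right_inv x := by ext; simp [mul_assoc]
  map_mul' x y := by ext; simp [mul_assoc]

theorem core {L : Type*} [Group L] [Finite L] [IsSimpleGroup L] (hL : ¬ IsMulCommutative L) (z : L)
    (hz : orderOf z = 2) (R : Sylow 2 L)
    (hR : (R : Subgroup L) = Subgroup.centralizer ({z} : Set L))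
    (hΦ : (frattini ↥(R : Subgroup L)).map (R : Subgroup L).subtype = Subgroup.zpowers z)
    (hfus : ∃ g : L, g * z * g⁻¹ ∈ (R : Subgroup L) ∧ g * z * g⁻¹ ≠ z) :
    Nonempty (↥(R : Subgroup L) ≃* DihedralGroup 4) := by
  classical
  have hmemR : ∀ x : L, x ∈ (R : Subgroup L) ↔ z * x = x * z := by
    intro x; rw [hR, Subgroup.mem_centralizer_singleton_iff, eq_comm]
  have hz1 : z ≠ 1 := by
    intro h; rw [h, orderOf_one] at hz; norm_num at hz
  have hzz : z * z = 1 := by
    have := pow_orderOf_eq_one z; rw [hz, pow_two] at this; exact this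
  have hzinv : z⁻¹ = z := inv_eq_of_mul_eq_one_right hzz
  have hzR : z ∈ (R : Subgroup L) := (hmemR z).mpr rfl
  have hR2 : IsPGroup 2 ↥(R : Subgroup L) := R.isPGroup'
  have hfr : ∀ x : ↥(R : Subgroup L), x ∈ frattini ↥(R : Subgroup L) →
      (x : L) = 1 ∨ (x : L) = z := by
    intro x hx
    apply mem_zpowers_two hz
    rw [← hΦ]
    exact Subgroup.mem_map_of_mem _ hx
  have hsq : ∀ x ∈ (R : Subgroup L), x * x = 1 ∨ x * x = z := by
    intro x hx
    exact hfr (⟨x, hx⟩ * ⟨x, hx⟩) (Cfsg.Agent.Lib.Helper94.sq_mem_frattini hR2 ⟨x, hx⟩)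
  have hcm : ∀ x ∈ (R : Subgroup L), ∀ y ∈ (R : Subgroup L),
      x * y * x⁻¹ * y⁻¹ = 1 ∨ x * y * x⁻¹ * y⁻¹ = z := by
    intro x hx y hy
    have h1 : ⁅(⟨x, hx⟩ : ↥(R : Subgroup L)), ⟨y, hy⟩⁆ ∈ frattini ↥(R : Subgroup L) :=
      Cfsg.Agent.Lib.Helper56.commutator_le_frattini_of_pgroup hR2
        (by rw [commutator_def]
            exact Subgroup.commutator_mem_commutator (Subgroup.mem_top _) (Subgroup.mem_top _))
    have := hfr _ h1
    simpa [commutatorElement_def] using this
  -- the normalizer of `R` is `R`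
  have hN : ∀ n : L, n ∈ Subgroup.normalizer ((R : Subgroup L) : Set L) → n ∈ (R : Subgroup L) := by
    intro n hn
    have hzf : (⟨z, hzR⟩ : ↥(R : Subgroup L)) ∈ frattini ↥(R : Subgroup L) := by
      have : z ∈ (frattini ↥(R : Subgroup L)).map (R : Subgroup L).subtype := by
        rw [hΦ]; exact Subgroup.mem_zpowers z
      obtain ⟨x, hx, hxz⟩ := Subgroup.mem_map.mp this
      have : x = ⟨z, hzR⟩ := Subtype.ext hxz
      rw [← this]; exact hx
    have hchar : (frattini ↥(R : Subgroup L)).Characteristic := frattini_characteristic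
    have h1 := (Subgroup.characteristic_iff_le_comap.mp hchar) (conjEquiv (R : Subgroup L) n hn) hzf
    rw [Subgroup.mem_comap] at h1
    have h2 := hfr _ h1
    have h3 : n * z * n⁻¹ = 1 ∨ n * z * n⁻¹ = z := h2
    rcases h3 with h3 | h3
    · exfalso; apply hz1
      have : z = n⁻¹ * (n * z * n⁻¹) * n := by group
      rw [this, h3]; group
    · rw [hmemR]
      have : n * z = z * n := by
        have h4 : n * z = (n * z * n⁻¹) * n := by group
        rw [h4, h3]
      exact this.symm
  -- central involutions of `R` lie in `⟨z⟩`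
  have hZ : ∀ y ∈ (R : Subgroup L), (∀ x ∈ (R : Subgroup L), x * y = y * x) → y * y = 1 →
      y = 1 ∨ y = z := by
    intro y hyR hyc hy2
    rcases Cfsg.Agent.S2872.result R with h | h | h
    · exact absurd (pres_top hL) h
    · apply mem_zpowers_two hz
      rw [← hΦ]
      apply h
      apply Subgroup.subset_closure
      refine ⟨⟨hyR, Subgroup.mem_centralizer_iff.mpr ?_⟩, by rw [pow_two]; exact hy2⟩
      intro x hx
      exact hyc x hx
    · exfalso
      obtain ⟨n, hn, w, hw, hne⟩ := h
      have hnR := hN n hn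
      have hle : Cfsg.omegaOne 2 ((R : Subgroup L) ⊓ Subgroup.centralizer ((R : Subgroup L) : Set L))
          ≤ (R : Subgroup L) ⊓ Subgroup.centralizer ((R : Subgroup L) : Set L) := by
        unfold Cfsg.omegaOne
        rw [Subgroup.closure_le]
        intro x hx; exact hx.1
      have hw' := Subgroup.mem_centralizer_iff.mp (hle hw).2
      apply hne
      rw [hw' n hnR]; group
  obtain ⟨g, hgR, hgne⟩ := hfus
  set z' : L := g * z * g⁻¹ with hz'def
  have hz'z' : z' * z' = 1 := by
    rw [hz'def]
    have : g * z * g⁻¹ * (g * z * g⁻¹) = g * (z * z) * g⁻¹ := by group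
    rw [this, hzz]; group
  have hz'inv : z'⁻¹ = z' := inv_eq_of_mul_eq_one_right hz'z'
  have hz'1 : z' ≠ 1 := by
    intro h
    apply hz1
    have : z = g⁻¹ * z' * g := by rw [hz'def]; group
    rw [this, h]; group
  have hzz' : z * z' = z' * z := (hmemR z').mp hgR
  -- elements centralizing z' are conjugates of elements of R
  have hC' : ∀ x : L, x * z' = z' * x → g⁻¹ * x * g ∈ (R : Subgroup L) := by
    intro x hx
    rw [hmemR]
    have h1 : z = g⁻¹ * z' * g := by rw [hz'def]; group
    rw [h1]
    have e1 : g⁻¹ * z' * g * (g⁻¹ * x * g) = g⁻¹ * (z' * x) * g := by group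
    have e2 : g⁻¹ * x * g * (g⁻¹ * z' * g) = g⁻¹ * (x * z') * g := by group
    rw [e1, e2, hx]
  have hD2 : ∀ x ∈ (R : Subgroup L), x * z' = z' * x → x * x = 1 := by
    intro x hx hxz
    rcases hsq x hx with h | h
    · exact h
    · rcases hsq _ (hC' x hxz) with h' | h'
      · have e : g⁻¹ * x * g * (g⁻¹ * x * g) = g⁻¹ * (x * x) * g := by group
        rw [e] at h'
        have : x * x = g * (g⁻¹ * (x * x) * g) * g⁻¹ := by group
        rw [this, h']; group
      · exfalso
        have e : g⁻¹ * x * g * (g⁻¹ * x * g) = g⁻¹ * (x * x) * g := by group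
        rw [e, h] at h'
        apply hgne
        rw [hz'def]
        calc g * z * g⁻¹ = g * (g⁻¹ * z * g) * g⁻¹ := by rw [h']
          _ = z := by group
  -- powers of an element preserving R by conjugation
  have hnorm : ∀ a : L, (∀ x ∈ (R : Subgroup L), a * x * a⁻¹ ∈ (R : Subgroup L)) →
      a ∈ Subgroup.normalizer ((R : Subgroup L) : Set L) := by
    intro a ha
    have hpow : ∀ k : ℕ, ∀ x ∈ (R : Subgroup L), a ^ k * x * (a ^ k)⁻¹ ∈ (R : Subgroup L) := by
      intro k
      induction k with
      | zero => intro x hx; simp [hx]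
      | succ k ih =>
        intro x hx
        have := ha _ (ih x hx)
        have e : a ^ (k + 1) * x * (a ^ (k + 1))⁻¹ = a * (a ^ k * x * (a ^ k)⁻¹) * a⁻¹ := by
          rw [pow_succ']; group
        rw [e]; exact this
    rw [Subgroup.mem_normalizer_iff]
    intro x
    refine ⟨ha x, fun hx => ?_⟩
    have hpos := orderOf_pos a
    have h1 := hpow (orderOf a - 1) _ hx
    have e : a ^ (orderOf a - 1) = a⁻¹ := by
      rw [eq_inv_iff_mul_eq_one, ← pow_succ, Nat.sub_add_cancel hpos, pow_orderOf_eq_one]
    rw [e] at h1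
    have e2 : a⁻¹ * (a * x * a⁻¹) * a⁻¹⁻¹ = x := by group
    rw [e2] at h1; exact h1
  -- z' is not central in R
  have hnc : ∃ t ∈ (R : Subgroup L), t * z' ≠ z' * t := by
    by_contra hcon
    push Not at hcon
    have h1 : g⁻¹ ∈ Subgroup.normalizer ((R : Subgroup L) : Set L) := by
      apply hnorm
      intro x hx
      have := hC' x (hcon x hx)
      simpa using this
    have h2 := hN _ h1
    rw [hmemR] at h2
    apply hgne
    rw [hz'def]
    have : g * z * g⁻¹ = g * (z * g⁻¹) := by group
    rw [this, h2]; group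
  obtain ⟨t, htR, htz'⟩ := hnc
  have htc : t * z' * t⁻¹ * z'⁻¹ = z := by
    rcases hcm t htR z' hgR with h | h
    · exfalso; apply htz'
      have : t * z' = (t * z' * t⁻¹ * z'⁻¹) * z' * t := by group
      rw [this, h]; group
    · exact h
  have htz : z * t = t * z := (hmemR t).mp htR
  have htconj : t * z' * t⁻¹ = z * z' := by
    have : t * z' * t⁻¹ = (t * z' * t⁻¹ * z'⁻¹) * z' := by group
    rw [this, htc]
  -- index two
  have hidx : ∀ r ∈ (R : Subgroup L), r * z' = z' * r ∨ (t⁻¹ * r) * z' = z' * (t⁻¹ * r) := by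
    intro r hr
    rcases hcm r hr z' hgR with h | h
    · left
      have : r * z' = (r * z' * r⁻¹ * z'⁻¹) * z' * r := by group
      rw [this, h]; group
    · right
      have h1 : r * z' * r⁻¹ = z * z' := by
        have : r * z' * r⁻¹ = (r * z' * r⁻¹ * z'⁻¹) * z' := by group
        rw [this, h]
      have h2 : t⁻¹ * (r * z' * r⁻¹) * t = z' := by
        rw [h1, ← htconj]; group
      have : t⁻¹ * r * z' = (t⁻¹ * (r * z' * r⁻¹) * t) * (t⁻¹ * r) := by group
      rw [this, h2]
  -- D is abelian
  have hDab : ∀ x ∈ (R : Subgroup L), x * z' = z' * x → ∀ y ∈ (R : Subgroup L), y * z' = z' * y →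
      x * y = y * x := by
    intro x hx hxz y hy hyz
    have hxx := hD2 x hx hxz
    have hyy := hD2 y hy hyz
    have hxy : (x * y) * (x * y) = 1 := by
      apply hD2 _ ((R : Subgroup L).mul_mem hx hy)
      rw [mul_assoc, hyz, ← mul_assoc, hxz, mul_assoc]
    have hxi : x⁻¹ = x := inv_eq_of_mul_eq_one_right hxx
    have hyi : y⁻¹ = y := inv_eq_of_mul_eq_one_right hyy
    have : x * y = (x * y)⁻¹ := (inv_eq_of_mul_eq_one_right hxy).symm
    rw [this, mul_inv_rev, hxi, hyi]
  -- elements of D commuting with t are central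
  have hcentral : ∀ w ∈ (R : Subgroup L), w * z' = z' * w → t * w = w * t → w = 1 ∨ w = z := by
    intro w hw hwz hwt
    apply hZ w hw _ (hD2 w hw hwz)
    intro r hr
    rcases hidx r hr with h | h
    · exact hDab r hr h w hw hwz
    · have h1 := hDab (t⁻¹ * r) ((R : Subgroup L).mul_mem ((R : Subgroup L).inv_mem htR) hr) h w hw hwz
      have e1 : r * w = t * ((t⁻¹ * r) * w) := by group
      rw [e1, h1, ← mul_assoc, hwt]; group
  -- the four elements of D
  have hD : ∀ x ∈ (R : Subgroup L), x * z' = z' * x → x = 1 ∨ x = z ∨ x = z' ∨ x = z * z' := by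
    intro x hx hxz
    have hxzc : z * x = x * z := (hmemR x).mp hx
    rcases hcm t htR x hx with h | h
    · have htx : t * x = x * t := by
        have : t * x = (t * x * t⁻¹ * x⁻¹) * x * t := by group
        rw [this, h]; group
      rcases hcentral x hx hxz htx with h1 | h1
      · exact Or.inl h1
      · exact Or.inr (Or.inl h1)
    · have htx : t * x * t⁻¹ = z * x := by
        have : t * x * t⁻¹ = (t * x * t⁻¹ * x⁻¹) * x := by group
        rw [this, h]
      have hw : t * (x * z') = (x * z') * t := by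
        have e : t * (x * z') = (t * x * t⁻¹) * (t * z' * t⁻¹) * t := by group
        rw [e, htx, htconj]
        have e2 : z * x * (z * z') = (z * z) * x * z' := by
          rw [mul_assoc z x, ← mul_assoc x z, ← hxzc]; group
        rw [e2, hzz, one_mul]
      have hwz : (x * z') * z' = z' * (x * z') := by
        rw [← mul_assoc z', ← hxz]
      rcases hcentral (x * z') ((R : Subgroup L).mul_mem hx hgR) hwz hw with h1 | h1
      · right; right; left
        have : x = (x * z') * z'⁻¹ := by group
        rw [this, h1, hz'inv, one_mul]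
      · right; right; right
        have : x = (x * z') * z'⁻¹ := by group
        rw [this, h1, hz'inv]
  -- the eight elements of R
  have hsub : ((R : Subgroup L) : Set L) ⊆
      (({1, z, z', z * z', t, t * z, t * z', t * (z * z')} : Finset L) : Set L) := by
    intro r hr
    have hr' : r ∈ (R : Subgroup L) := hr
    simp only [Finset.coe_insert, Finset.coe_singleton, Set.mem_insert_iff, Set.mem_singleton_iff]
    rcases hidx r hr' with h | h
    · rcases hD r hr' h with h1 | h1 | h1 | h1
      · exact Or.inl h1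
      · exact Or.inr (Or.inl h1)
      · exact Or.inr (Or.inr (Or.inl h1))
      · exact Or.inr (Or.inr (Or.inr (Or.inl h1)))
    · have hr2 : r = t * (t⁻¹ * r) := by group
      rcases hD _ ((R : Subgroup L).mul_mem ((R : Subgroup L).inv_mem htR) hr') h with h1 | h1 | h1 | h1
      · right; right; right; right; left; rw [hr2, h1, mul_one]
      · right; right; right; right; right; left; rw [hr2, h1]
      · right; right; right; right; right; right; left; rw [hr2, h1]
      · right; right; right; right; right; right; right; rw [hr2, h1]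
  have hle8 : Nat.card ↥(R : Subgroup L) ≤ 8 := by
    have h1 : Nat.card ↥(R : Subgroup L) = ((R : Subgroup L) : Set L).ncard := by
      rw [← Nat.card_coe_set_eq]; rfl
    rw [h1]
    refine (Set.ncard_le_ncard hsub (Finset.finite_toSet _)).trans ?_
    rw [Set.ncard_coe_finset]
    refine (Finset.card_insert_le _ _).trans ?_
    refine Nat.succ_le_succ ((Finset.card_insert_le _ _).trans ?_)
    refine Nat.succ_le_succ ((Finset.card_insert_le _ _).trans ?_)
    refine Nat.succ_le_succ ((Finset.card_insert_le _ _).trans ?_)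
    refine Nat.succ_le_succ ((Finset.card_insert_le _ _).trans ?_)
    refine Nat.succ_le_succ ((Finset.card_insert_le _ _).trans ?_)
    refine Nat.succ_le_succ ((Finset.card_insert_le _ _).trans ?_)
    refine Nat.succ_le_succ ?_
    simp
  -- R is not commutative
  have hncomm : ¬ IsMulCommutative ↥(R : Subgroup L) := by
    intro h
    apply htz'
    have := h.is_comm.comm ⟨t, htR⟩ ⟨z', hgR⟩
    exact congrArg Subtype.val this
  have hpow4 : ∀ a : L, a ^ 2 ^ (1 + 1) = (a * a) * (a * a) := by
    intro a
    rw [show (2:ℕ) ^ (1 + 1) = 2 * 2 by norm_num, pow_mul, pow_two, pow_two]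
  have hcard : Nat.card ↥(R : Subgroup L) = 2 * 4 := by
    obtain ⟨k, hk⟩ := (IsPGroup.iff_card.mp hR2)
    have hk3 : k ≤ 3 := by
      by_contra hcon
      push Not at hcon
      have : 2 ^ 4 ≤ 2 ^ k := Nat.pow_le_pow_right (by norm_num) hcon
      omega
    interval_cases k
    · exfalso
      have hsub1 : Subsingleton ↥(R : Subgroup L) := by
        rw [← Finite.card_le_one_iff_subsingleton, hk]; norm_num
      exact hncomm ⟨⟨fun a b => by rw [Subsingleton.elim a b]⟩⟩
    · exfalso
      have hcyc : IsCyclic ↥(R : Subgroup L) := isCyclic_of_prime_card (p := 2) (by rw [hk]; norm_num)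
      exact hncomm IsCyclic.isMulCommutative
    · exfalso
      exact hncomm (IsPGroup.isMulCommutative_of_card_eq_prime_sq (p := 2) (by rw [hk]))
    · rw [hk]; norm_num
  -- the dihedral generators
  rcases hsq t htR with htt | htt
  · -- t² = 1 : a = z' t, b = t
    have ht_inv : t⁻¹ = t := inv_eq_of_mul_eq_one_right htt
    have haa : (z' * t) * (z' * t) = z := by
      have e : (z' * t) * (z' * t) = z' * (t * z' * t⁻¹) * (t * t) := by group
      rw [e, htconj, htt, mul_one, ← mul_assoc, ← hzz', mul_assoc, hz'z', mul_one]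
    refine Cfsg.Agent.Lib.Helper12.nonempty_mulEquiv_dihedral (m := 4) (by norm_num)
      (⟨z' * t, (R : Subgroup L).mul_mem hgR htR⟩ : ↥(R : Subgroup L)) ⟨t, htR⟩ hcard ?_ ?_ ?_ ?_
    · have h4 : (4 : ℕ) = 2 ^ (1 + 1) := by norm_num
      rw [h4]
      apply orderOf_eq_prime_pow
      · intro h
        have := congrArg Subtype.val h
        simp only [pow_one, pow_two, Subgroup.coe_mul, Subgroup.coe_one] at this
        rw [haa] at this
        exact hz1 this
      · apply Subtype.ext
        rw [Subgroup.coe_pow, Subgroup.coe_one]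
        show (z' * t) ^ 2 ^ (1 + 1) = 1
        rw [hpow4, haa, hzz]
    · intro hmem
      obtain ⟨k, hk⟩ := Subgroup.mem_zpowers_iff.mp hmem
      have h1 : z' * t * t = t * (z' * t) := by
        have hc : Commute (⟨z' * t, (R : Subgroup L).mul_mem hgR htR⟩ : ↥(R : Subgroup L)) ⟨t, htR⟩ := by
          rw [← hk]; exact Commute.zpow_right (Commute.refl _) k
        have := congrArg Subtype.val hc.eq
        simpa [mul_assoc] using this
      apply htz'
      have e : t * z' = (t * (z' * t)) * t⁻¹ := by group
      rw [e, ← h1]; group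
    · apply Subtype.ext
      simp only [pow_two, Subgroup.coe_mul, Subgroup.coe_one]
      exact htt
    · apply Subtype.ext
      show t * (z' * t) * t⁻¹ = (z' * t)⁻¹
      rw [mul_inv_rev, hz'inv, ht_inv, mul_assoc, mul_assoc, htt, mul_one]
  · -- t² = z : a = t, b = z'
    have ht4 : t * t * (t * t) = 1 := by rw [htt, hzz]
    have ht_inv : t⁻¹ = t * z := by
      apply inv_eq_of_mul_eq_one_right
      rw [← htt, ← mul_assoc]; 
      have : t * t * t * t = t * t * (t * t) := by group
      rw [← mul_assoc, this, ht4]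
    refine Cfsg.Agent.Lib.Helper12.nonempty_mulEquiv_dihedral (m := 4) (by norm_num)
      (⟨t, htR⟩ : ↥(R : Subgroup L)) ⟨z', hgR⟩ hcard ?_ ?_ ?_ ?_
    · have h4 : (4 : ℕ) = 2 ^ (1 + 1) := by norm_num
      rw [h4]
      apply orderOf_eq_prime_pow
      · intro h
        have := congrArg Subtype.val h
        simp only [pow_one, pow_two, Subgroup.coe_mul, Subgroup.coe_one] at this
        rw [htt] at this
        exact hz1 this
      · apply Subtype.ext
        rw [Subgroup.coe_pow, Subgroup.coe_one]
        show t ^ 2 ^ (1 + 1) = 1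
        rw [hpow4, ht4]
    · intro hmem
      obtain ⟨k, hk⟩ := Subgroup.mem_zpowers_iff.mp hmem
      have hc : Commute (⟨t, htR⟩ : ↥(R : Subgroup L)) ⟨z', hgR⟩ := by
        rw [← hk]; exact Commute.zpow_right (Commute.refl _) k
      exact htz' (congrArg Subtype.val hc.eq)
    · apply Subtype.ext
      simp only [pow_two, Subgroup.coe_mul, Subgroup.coe_one]
      exact hz'z'
    · apply Subtype.ext
      show z' * t * z'⁻¹ = t⁻¹
      rw [ht_inv, hz'inv]
      -- z' t z' = t z
      have h1 : t * z' = z * z' * t := by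
        have : t * z' = (t * z' * t⁻¹) * t := by group
        rw [this, htconj]
      have h2 : z' * t = z * (t * z') := by
        rw [h1, ← mul_assoc, ← mul_assoc, hzz, one_mul]
      rw [h2, mul_assoc, mul_assoc, hz'z', mul_one, htz]

/-- In a finite simple nonabelian group, an involution `z` of a Sylow 2-subgroup `R` that satisfies the
conclusion of Glauberman's Z*-theorem whenever it is isolated in `R` has a conjugate in `R` other than
itself. -/
theorem fus_of_zstar {L : Type*} [Group L] [Finite L] [IsSimpleGroup L] (hL : ¬ IsMulCommutative L)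
    (z : L) (hz : orderOf z = 2) (R : Sylow 2 L)
    (hZ : (∀ g : L, g * z * g⁻¹ ∈ R → g * z * g⁻¹ = z) →
      ∃ N : Subgroup L, N.Normal ∧ Odd (Nat.card N) ∧ ∀ g : L, (z * g * z⁻¹ * g⁻¹) ∈ N) :
    ∃ g : L, g * z * g⁻¹ ∈ (R : Subgroup L) ∧ g * z * g⁻¹ ≠ z := by
  by_contra hcon
  push Not at hcon
  have hz1 : z ≠ 1 := by
    intro h; rw [h, orderOf_one] at hz; norm_num at hz
  obtain ⟨N, hN, hodd, hcomm⟩ := hZ hcon
  rcases hN.eq_bot_or_eq_top with h | h
  · have hzc : z ∈ Subgroup.center L := by
      rw [Subgroup.mem_center_iff]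
      intro g
      have h1 := hcomm g
      rw [h, Subgroup.mem_bot] at h1
      have : z * g = (z * g * z⁻¹ * g⁻¹) * g * z := by group
      rw [this, h1]; group
    have hcn : (Subgroup.center L).Normal := inferInstance
    rcases hcn.eq_bot_or_eq_top with h0 | h0
    · rw [h0, Subgroup.mem_bot] at hzc; exact hz1 hzc
    · apply hL
      refine ⟨⟨fun a b => ?_⟩⟩
      have : a ∈ Subgroup.center L := by rw [h0]; exact Subgroup.mem_top a
      exact ((Subgroup.mem_center_iff.mp this) b).symm
  · have h2 : orderOf z ∣ Nat.card L := orderOf_dvd_natCard z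
    rw [h, Subgroup.card_top] at hodd
    rw [hz] at h2
    exact (Nat.not_even_iff_odd.mpr hodd) (even_iff_two_dvd.mpr h2)

end Cfsg.Agent.Lib.Helper93.ZSmall
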